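import Cfsg.Agent.H989.OkuboRoot
import Cfsg.Agent.H669.TriBal

/-!
# S3510, triality of type (ii): exact automorphisms of the Okubo product
-/

set_option autoImplicit false

namespace Cfsg.Agent.H442.RC.TriB

open Module QuadraticMap Cfsg.Agent.LieClassical.OrthCore Cfsg.Agent.LieClassical.OrthTrans
  Cfsg.Agent.LieClassical.OrthSimple Cfsg.Agent.ClassicalGeometry.OrthAut1
  Cfsg.Agent.ClassicalGeometry.OrthSemi Cfsg.Agent.H198.Classes
  Cfsg.Agent.LieClassical.QuadForms Cfsg.Agent.H198.ClassesPlus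
  Cfsg.Agent.ClassicalGeometry.TrialityOct Cfsg.Agent.ClassicalGeometry.Triality
  Cfsg.Agent.ClassicalGeometry.TrialitySpaces Cfsg.Agent.H198.TriBase Cfsg.Agent.H198.TriAut
  Cfsg.Agent.H206.Balance Cfsg.Agent.H198.BalVar Cfsg.Agent.H198.TriDia Cfsg.Agent.H198.TriSpec
  Cfsg.Agent.H198.TriPhi

universe u

/-- an exact automorphism of the Okubo product -/
def Ex {F : Type u} [Field F] (g : V8 F ≃ₗ[F] V8 F) : Prop :=
  ∀ x y, g (dia (tauB F) x y) = dia (tauB F) (g x) (g y)

end Cfsg.Agent.H442.RC.TriB
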