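import Cfsg.Agent.H566.RC.Dia
import Cfsg.Agent.H566.RC.TriFrame

/-!
# S3510, triality of type (ii): Siegel elements of a hyperbolic frame

`Fr Q v w p q` : `v, w, p, q` singular, `b(v, w) = b(p, q) = 1`, the other products zero.
`Am t = sg v (t q)`, `Bm t = sg w (t p)` generate `L₋`, `Ap t = sg v (-t p)`, `Bp t = sg w (-t q)` generate `L₊`.
-/

set_option autoImplicit false
set_option linter.unusedSectionVars false

namespace Cfsg.Agent.H442.RC.TriB

open QuadraticMap MulAction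
open Cfsg.Agent.LieClassical.OrthCore Cfsg.Agent.LieClassical.OrthTrans
open Cfsg.Agent.LieClassical.OrthSimple Cfsg.Agent.ClassicalGeometry.OrthSemi
open Cfsg.Agent.ClassicalGeometry.OrthAut1 Cfsg.Agent.AutOrth.SemiSim

variable {F V : Type*} [Field F] [AddCommGroup V] [Module F V] {Q : QuadraticForm F V} {v w p q : V}

/-- hyperbolic frame of a `4`-space of plus type -/
structure Fr (Q : QuadraticForm F V) (v w p q : V) : Prop where
  Qv : Q v = 0
  Qw : Q w = 0
  Qp : Q p = 0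
  Qq : Q q = 0
  vw : polar Q v w = 1
  pq : polar Q p q = 1
  vp : polar Q v p = 0
  vq : polar Q v q = 0
  wp : polar Q w p = 0
  wq : polar Q w q = 0

theorem pself {u : V} (hu : Q u = 0) : polar Q u u = 0 := by
  rw [QuadraticMap.polar_self, hu]; simp

namespace Fr

variable (f : Fr Q v w p q)

include f

theorem symm : Fr Q w v q p :=
  ⟨f.Qw, f.Qv, f.Qq, f.Qp, by rw [polar_comm, f.vw], by rw [polar_comm, f.pq], f.wq, f.wp, f.vq, f.vp⟩

theorem wv : polar Q w v = 1 := by rw [polar_comm, f.vw]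
theorem qp : polar Q q p = 1 := by rw [polar_comm, f.pq]
theorem pv : polar Q p v = 0 := by rw [polar_comm, f.vp]
theorem qv : polar Q q v = 0 := by rw [polar_comm, f.vq]
theorem pw : polar Q p w = 0 := by rw [polar_comm, f.wp]
theorem qw : polar Q q w = 0 := by rw [polar_comm, f.wq]

theorem vtq (t : F) : polar Q v (t • q) = 0 := by rw [polar_smul_right, f.vq, smul_zero]
theorem wtp (t : F) : polar Q w (t • p) = 0 := by rw [polar_smul_right, f.wp, smul_zero]
theorem vtp (t : F) : polar Q v (t • p) = 0 := by rw [polar_smul_right, f.vp, smul_zero]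
theorem wtq (t : F) : polar Q w (t • q) = 0 := by rw [polar_smul_right, f.wq, smul_zero]

omit f in
/-- `L₋` -/
def Am (f : Fr Q v w p q) (t : F) : ↥(E Q) := sg Q v (t • q) f.Qv (f.vtq t)
omit f in
def Bm (f : Fr Q v w p q) (t : F) : ↥(E Q) := sg Q w (t • p) f.Qw (f.wtp t)
omit f in
/-- `L₊` -/
def Ap (f : Fr Q v w p q) (t : F) : ↥(E Q) := sg Q v ((-t) • p) f.Qv (f.vtp (-t))
omit f in
def Bp (f : Fr Q v w p q) (t : F) : ↥(E Q) := sg Q w ((-t) • q) f.Qw (f.wtq (-t))

theorem Am_apply (t : F) (x : V) : (f.Am t : V ≃ₗ[F] V) x = x + (t * polar Q v x) • q - (t * polar Q q x) • v := by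
  rw [Am, sg_apply, QuadraticMap.map_smul, f.Qq, polar_smul_left]
  simp only [smul_eq_mul]
  module

theorem Bm_apply (t : F) (x : V) : (f.Bm t : V ≃ₗ[F] V) x = x + (t * polar Q w x) • p - (t * polar Q p x) • w := by
  rw [Bm, sg_apply, QuadraticMap.map_smul, f.Qp, polar_smul_left]
  simp only [smul_eq_mul]
  module

theorem Ap_apply (t : F) (x : V) : (f.Ap t : V ≃ₗ[F] V) x = x - (t * polar Q v x) • p + (t * polar Q p x) • v := by
  rw [Ap, sg_apply, QuadraticMap.map_smul, f.Qp, polar_smul_left]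
  simp only [smul_eq_mul]
  module

theorem Bp_apply (t : F) (x : V) : (f.Bp t : V ≃ₗ[F] V) x = x - (t * polar Q w x) • q + (t * polar Q q x) • w := by
  rw [Bp, sg_apply, QuadraticMap.map_smul, f.Qq, polar_smul_left]
  simp only [smul_eq_mul]
  module

end Fr

theorem extE {a b : ↥(E Q)} (h : ∀ x, (a : V ≃ₗ[F] V) x = (b : V ≃ₗ[F] V) x) : a = b :=
  Subtype.ext (LinearEquiv.ext h)

theorem mulE (a b : ↥(E Q)) (x : V) : ((a * b : ↥(E Q)) : V ≃ₗ[F] V) x = (a : V ≃ₗ[F] V) ((b : V ≃ₗ[F] V) x) := rfl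

macro "frs" f:term : tactic => `(tactic| simp only [mulE, Fr.Am_apply $f, Fr.Bm_apply $f, Fr.Ap_apply $f, Fr.Bp_apply $f,
  polar_add_right, polar_sub_right, polar_smul_right, smul_eq_mul, Fr.vw $f, Fr.pq $f, Fr.vp $f, Fr.vq $f, Fr.wp $f,
  Fr.wq $f, Fr.wv $f, Fr.qp $f, Fr.pv $f, Fr.qv $f, Fr.pw $f, Fr.qw $f, pself (Fr.Qv $f), pself (Fr.Qw $f),
  pself (Fr.Qp $f), pself (Fr.Qq $f), mul_zero, mul_one, add_zero, sub_zero, zero_smul, zero_add, zero_sub])

namespace Fr

variable (f : Fr Q v w p q)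

include f

theorem AmAp (s t : F) : f.Am s * f.Ap t = f.Ap t * f.Am s := by
  apply extE; intro x; frs f; module

theorem AmBp (s t : F) : f.Am s * f.Bp t = f.Bp t * f.Am s := by
  apply extE; intro x; frs f; module

theorem BmAp (s t : F) : f.Bm s * f.Ap t = f.Ap t * f.Bm s := by
  apply extE; intro x; frs f; module

theorem BmBp (s t : F) : f.Bm s * f.Bp t = f.Bp t * f.Bm s := by
  apply extE; intro x; frs f; module

theorem Am_add (s t : F) : f.Am s * f.Am t = f.Am (s + t) := by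
  apply extE; intro x; frs f; module

theorem Bm_add (s t : F) : f.Bm s * f.Bm t = f.Bm (s + t) := by
  apply extE; intro x; frs f; module

theorem Am_zero : f.Am 0 = 1 := by
  apply extE; intro x; frs f; simp

theorem Bm_zero : f.Bm 0 = 1 := by
  apply extE; intro x; frs f; simp

theorem Am_inv (t : F) : (f.Am t)⁻¹ = f.Am (-t) := by
  rw [inv_eq_iff_mul_eq_one, f.Am_add, add_neg_cancel, f.Am_zero]

theorem Bm_inv (t : F) : (f.Bm t)⁻¹ = f.Bm (-t) := by
  rw [inv_eq_iff_mul_eq_one, f.Bm_add, add_neg_cancel, f.Bm_zero]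

theorem Bm_pow (t : F) (n : ℕ) : f.Bm t ^ n = f.Bm (n * t) := by
  induction n with
  | zero => rw [pow_zero, Nat.cast_zero, zero_mul, f.Bm_zero]
  | succ n ih => rw [pow_succ, ih, f.Bm_add, Nat.cast_succ, add_mul, one_mul]

omit f in
/-- the element of order `3` of `L₋` -/
def kk (f : Fr Q v w p q) : ↥(E Q) := f.Bm 3 * (f.Am 1 * f.Bm 1 * f.Am (-1))

theorem kk_apply (x : V) : (f.kk : V ≃ₗ[F] V) x = x + polar Q w x • (p - v) + polar Q v x • (q - (2 : F) • w) -
    polar Q q x • (v + (2 : F) • p) - polar Q p x • (w + q) := by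
  rw [kk]; frs f; module

theorem kk_v : (f.kk : V ≃ₗ[F] V) v = p := by
  rw [kk_apply]; frs f; module

theorem kk_p : (f.kk : V ≃ₗ[F] V) p = -v - p := by
  rw [kk_apply]; frs f; module

theorem kk_cube : f.kk ^ 3 = 1 := by
  apply extE; intro x
  rw [pow_three, mulE, mulE, f.kk_apply, f.kk_apply, f.kk_apply]
  frs f
  change _ = x
  module

end Fr

end Cfsg.Agent.H442.RC.TriB
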