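import Cfsg.Agent.H442.RC.XT
import Cfsg.Agent.H297.RC.LR

/-!
# S3510, triality: the first kill lemma

`kill_one`: `x i₁` a linear triality automorphism `xt hG τ`, all other members `p'`-elements whose exact lifts fix
an opposite pair `v, w` (`v ⋄ v = 0 = w ⋄ w`, `b(v, w) = 1`), `p ≠ 3`: no cover.
-/

set_option autoImplicit false
set_option linter.unusedSectionVars false

namespace Cfsg.Agent.H442.RC.TriB

open Module QuadraticMap Cfsg.Agent.LieClassical.OrthCore Cfsg.Agent.LieClassical.OrthTrans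
  Cfsg.Agent.LieClassical.OrthSimple Cfsg.Agent.ClassicalGeometry.OrthAut1
  Cfsg.Agent.ClassicalGeometry.OrthSemi Cfsg.Agent.H198.Classes
  Cfsg.Agent.LieClassical.QuadForms Cfsg.Agent.H198.ClassesPlus
  Cfsg.Agent.ClassicalGeometry.TrialityOct Cfsg.Agent.ClassicalGeometry.Triality
  Cfsg.Agent.ClassicalGeometry.TrialitySpaces Cfsg.Agent.H198.TriBase Cfsg.Agent.H198.TriAut
  Cfsg.Agent.H198.TriDia Cfsg.Agent.H566.RC Cfsg.Agent.AutOrth.SemiSim Cfsg.Agent.H106.RC Cfsg.Agent.H93.RC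

universe u

variable {F : Type u} [Field F]

/-! ### Lifts -/

section lifts

variable {G Ω : Type*} [Group G] [MulAction G Ω] {N : Subgroup G} {σ : P8 F →* G}

theorem comm_of_lf (hE : Env G Ω N) (hσ : Rp (plusForm 4 F) N σ) {X Y : G} {A B : G8 F} (hX : Lf (up σ) X A)
    (hY : Lf (up σ) Y B) (h : A * B = B * A) : X * Y = Y * X := by
  have h1 := La.lf.2 (hX.mul hY)
  have h2 := La.lf.2 (hY.mul hX)
  rw [h] at h1
  exact La.eq hE hσ h1 h2

theorem eq_of_lf (hE : Env G Ω N) (hσ : Rp (plusForm 4 F) N σ) {X Y : G} {A : G8 F} (hX : Lf (up σ) X A)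
    (hY : Lf (up σ) Y A) : X = Y := La.eq hE hσ (La.lf.2 hX) (La.lf.2 hY)

end lifts

/-! ### Elements fixing the frame -/

/-- linear isometry fixing the frame -/
structure Fix4 (H : G8 F) (v w p q : V8 F) : Prop where
  ss : IsSS (plusForm 4 F) (RingEquiv.refl F) 1 H.1
  fv : H.1 v = v
  fw : H.1 w = w
  fp : H.1 p = p
  fq : H.1 q = q

theorem ss_polar {H : G8 F} (hs : IsSS (plusForm 4 F) (RingEquiv.refl F) 1 H.1) (x y : V8 F) :
    polar (plusForm 4 F) (H.1 x) (H.1 y) = polar (plusForm 4 F) x y := by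
  simp only [QuadraticMap.polar]
  rw [← hs.add, hs.form, hs.form, hs.form]
  simp

theorem ss_smul {H : G8 F} (hs : IsSS (plusForm 4 F) (RingEquiv.refl F) 1 H.1) (c : F) (x : V8 F) :
    H.1 (c • x) = c • H.1 x := hs.smul c x

section fix

variable {H K : G8 F} {v w p q : V8 F}

theorem Fix4.mul (hH : Fix4 H v w p q) (hK : Fix4 K v w p q) : Fix4 (H * K) v w p q := by
  refine ⟨?_, ?_, ?_, ?_, ?_⟩
  · have h1 := hH.ss.mul hK.ss
    rw [map_one, mul_one] at h1
    exact h1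
  · rw [appG, hK.fv, hH.fv]
  · rw [appG, hK.fw, hH.fw]
  · rw [appG, hK.fp, hH.fp]
  · rw [appG, hK.fq, hH.fq]

theorem extG {A B : G8 F} (h : ∀ x, A.1 x = B.1 x) : A = B := Subtype.ext (Equiv.ext h)

theorem tgE (β : ↥(E (plusForm 4 F))) (x : V8 F) : (tg (plusForm 4 F) β).1 x = (β : V8 F ≃ₗ[F] V8 F) x := rfl

theorem Fix4.pol_v (hH : Fix4 H v w p q) (x : V8 F) : polar (plusForm 4 F) v (H.1 x) = polar (plusForm 4 F) v x := by
  conv_lhs => rw [← hH.fv]
  exact ss_polar hH.ss v x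
theorem Fix4.pol_w (hH : Fix4 H v w p q) (x : V8 F) : polar (plusForm 4 F) w (H.1 x) = polar (plusForm 4 F) w x := by
  conv_lhs => rw [← hH.fw]
  exact ss_polar hH.ss w x
theorem Fix4.pol_p (hH : Fix4 H v w p q) (x : V8 F) : polar (plusForm 4 F) p (H.1 x) = polar (plusForm 4 F) p x := by
  conv_lhs => rw [← hH.fp]
  exact ss_polar hH.ss p x
theorem Fix4.pol_q (hH : Fix4 H v w p q) (x : V8 F) : polar (plusForm 4 F) q (H.1 x) = polar (plusForm 4 F) q x := by
  conv_lhs => rw [← hH.fq]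
  exact ss_polar hH.ss q x

theorem Fix4.comm_Am (hH : Fix4 H v w p q) (f : Fr (plusForm 4 F) v w p q) (t : F) :
    H * tg (plusForm 4 F) (f.Am t) = tg (plusForm 4 F) (f.Am t) * H := by
  apply extG; intro x
  rw [appG, appG, tgE, tgE, f.Am_apply, f.Am_apply, hH.ss.sub, hH.ss.add, ss_smul hH.ss, ss_smul hH.ss, hH.fq, hH.fv,
    hH.pol_v, hH.pol_q]

theorem Fix4.comm_Bm (hH : Fix4 H v w p q) (f : Fr (plusForm 4 F) v w p q) (t : F) :
    H * tg (plusForm 4 F) (f.Bm t) = tg (plusForm 4 F) (f.Bm t) * H := by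
  apply extG; intro x
  rw [appG, appG, tgE, tgE, f.Bm_apply, f.Bm_apply, hH.ss.sub, hH.ss.add, ss_smul hH.ss, ss_smul hH.ss, hH.fp, hH.fw,
    hH.pol_w, hH.pol_p]

theorem Fix4.comm_Ap (hH : Fix4 H v w p q) (f : Fr (plusForm 4 F) v w p q) (t : F) :
    H * tg (plusForm 4 F) (f.Ap t) = tg (plusForm 4 F) (f.Ap t) * H := by
  apply extG; intro x
  rw [appG, appG, tgE, tgE, f.Ap_apply, f.Ap_apply, hH.ss.add, hH.ss.sub, ss_smul hH.ss, ss_smul hH.ss, hH.fp, hH.fv,
    hH.pol_v, hH.pol_p]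

theorem Fix4.comm_Bp (hH : Fix4 H v w p q) (f : Fr (plusForm 4 F) v w p q) (t : F) :
    H * tg (plusForm 4 F) (f.Bp t) = tg (plusForm 4 F) (f.Bp t) * H := by
  apply extG; intro x
  rw [appG, appG, tgE, tgE, f.Bp_apply, f.Bp_apply, hH.ss.add, hH.ss.sub, ss_smul hH.ss, ss_smul hH.ss, hH.fq, hH.fw,
    hH.pol_w, hH.pol_q]

theorem comm_mul {G : Type*} [Group G] {a b c : G} (h1 : a * b = b * a) (h2 : a * c = c * a) :
    a * (b * c) = b * c * a := by
  rw [← mul_assoc, h1, mul_assoc, h2, mul_assoc]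

theorem Fix4.comm_kk (hH : Fix4 H v w p q) (f : Fr (plusForm 4 F) v w p q) :
    H * tg (plusForm 4 F) f.kk = tg (plusForm 4 F) f.kk * H := by
  rw [Fr.kk, map_mul (tg (plusForm 4 F)), map_mul (tg (plusForm 4 F)), map_mul (tg (plusForm 4 F))]
  exact comm_mul (hH.comm_Bm f 3) (comm_mul (comm_mul (hH.comm_Am f 1) (hH.comm_Bm f 1)) (hH.comm_Am f (-1)))

end fix

/-! ### Images under the triality automorphism -/

section im

variable {τ : G8 F} (hG : Good (plusForm 4 F)) (h : Au τ) {v w : V8 F} (k : Pr τ v w)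

/-- the image of `β` has a lift fixing the frame -/
def Im (hG : Good (plusForm 4 F)) (τ : G8 F) (v w : V8 F) (β : ↥(E (plusForm 4 F))) : Prop :=
  ∃ H : G8 F, Fix4 H v w (dia τ v w) (dia τ w v) ∧
    xt hG τ * Psi (plusForm 4 F) (tg (plusForm 4 F) β) * (xt hG τ)⁻¹ = Psi (plusForm 4 F) H

theorem gen_c {G : Type*} [Group G] (x a b : G) : x * (a * b) * x⁻¹ = x * a * x⁻¹ * (x * b * x⁻¹) := by group

theorem Im.mul {β γ : ↥(E (plusForm 4 F))} (hβ : Im hG τ v w β) (hγ : Im hG τ v w γ) : Im hG τ v w (β * γ) := by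
  obtain ⟨H, hH, h1⟩ := hβ
  obtain ⟨K, hK, h2⟩ := hγ
  refine ⟨H * K, hH.mul hK, ?_⟩
  rw [map_mul (tg (plusForm 4 F)), map_mul (Psi (plusForm 4 F)), map_mul (Psi (plusForm 4 F)), gen_c, h1, h2]

include h k

theorem fix_S1 {a b : V8 F} (ha : plusForm 4 F a = 0) (hb : plusForm 4 F b = 0) (hab : polar (plusForm 4 F) a b = 0)
    (h1 : dia τ (dia τ b v) a = 0) (h2 : dia τ (dia τ b w) a = 0) (h3 : dia τ (dia τ b (dia τ v w)) a = 0)
    (h4 : dia τ (dia τ b (dia τ w v)) a = 0) : Fix4 (S1 h ha hb hab) v w (dia τ v w) (dia τ w v) := by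
  refine ⟨?_, ?_, ?_, ?_, ?_⟩
  · exact ⟨one_ne_zero, fun x y => by
      rw [S1_apply, S1_apply, S1_apply, h.dia_add_right, h.dia_add_left]; abel, fun c x => by
      rw [S1_apply, S1_apply, h.dia_smul_right, h.dia_smul_left, smul_sub]; rfl, fun x => by
      have h1 : polar (plusForm 4 F) x (dia τ (dia τ b x) a) = 0 := by
        rw [polar_comm, h.assoc, polar_right h, polar_comm _ b, hab, mul_zero]
      rw [S1_apply, sub_eq_add_neg, QuadraticMap.map_add (plusForm 4 F), QuadraticMap.map_neg, h.dia_norm, ha, mul_zero,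
        polar_neg_right, h1]
      simp⟩
  · rw [S1_apply, h1, sub_zero]
  · rw [S1_apply, h2, sub_zero]
  · rw [S1_apply, h3, sub_zero]
  · rw [S1_apply, h4, sub_zero]

theorem im_Am (t : F) : Im hG τ v w ((frame h k).Am t) := by
  have hv := norm_of_dia h k.vv
  have hb : plusForm 4 F (t • dia τ w v) = 0 := by
    rw [QuadraticMap.map_smul, (frame h k).Qq, smul_zero]
  refine ⟨S1 h hv hb ((frame h k).vtq t), ?_, xt_sg h hv hb _ hG⟩
  apply fix_S1 h k
  · rw [h.dia_smul_left, h.dia_smul_left, q_v h k, k.vv, smul_zero]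
  · rw [h.dia_smul_left, h.dia_smul_left, q_w h k, dia_zero_left h, smul_zero]
  · rw [h.dia_smul_left, h.dia_smul_left, q_p h k, dia_zero_left h, smul_zero]
  · rw [h.dia_smul_left, h.dia_smul_left, q_q h k, neg_left h, p_v h k, neg_zero, smul_zero]

theorem im_Bm (t : F) : Im hG τ v w ((frame h k).Bm t) := by
  have hw := norm_of_dia h k.ww
  have hb : plusForm 4 F (t • dia τ v w) = 0 := by
    rw [QuadraticMap.map_smul, (frame h k).Qp, smul_zero]
  refine ⟨S1 h hw hb ((frame h k).wtp t), ?_, xt_sg h hw hb _ hG⟩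
  apply fix_S1 h k
  · rw [h.dia_smul_left, h.dia_smul_left, p_v h k, dia_zero_left h, smul_zero]
  · rw [h.dia_smul_left, h.dia_smul_left, p_w h k, k.ww, smul_zero]
  · rw [h.dia_smul_left, h.dia_smul_left, p_p h k, neg_left h, q_w h k, neg_zero, smul_zero]
  · rw [h.dia_smul_left, h.dia_smul_left, p_q h k, dia_zero_left h, smul_zero]

theorem im_kk : Im hG τ v w (frame h k).kk := by
  rw [Fr.kk]
  exact (im_Bm hG h k 3).mul hG (((im_Am hG h k 1).mul hG (im_Bm hG h k 1)).mul hG (im_Am hG h k (-1)))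

end im

theorem M_fix4 {τ : G8 F} (h : Au τ) {v w : V8 F} {M : G8 F} (hl : Cfsg.Agent.H198.TriDia.IsLin M)
    (hd : ∀ x y, M.1 (dia τ x y) = dia τ (M.1 x) (M.1 y)) (hv : M.1 v = v) (hw : M.1 w = w) :
    Fix4 M v w (dia τ v w) (dia τ w v) := by
  have h1 := isom_of_dia h hl hd
  obtain ⟨c, hc⟩ := hl
  refine ⟨⟨one_ne_zero, hc.add, hc.smul, fun x => ?_⟩, hv, hw, by rw [hd, hv, hw], by rw [hd, hv, hw]⟩
  rw [h1, one_mul]
  rfl

/-- **kill lemma 1** -/
theorem kill_one [Finite F] {G Ω : Type*} [Group G] [Finite G] [MulAction G Ω] [Nonempty Ω] {N : Subgroup G}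
    {σ : P8 F →* G} (hG : Good (plusForm 4 F)) (hE : Env G Ω N) (hσ : Rp (plusForm 4 F) N σ) {p : ℕ} [CharP F p]
    (hp3 : p ≠ 3) {ι : Type*} [Finite ι] {x : ι → G} {r : ι → ℕ} {i₁ : ι}
    (hr : ∀ j, j ≠ i₁ → (r j).Prime) (hx : ∀ j, j ≠ i₁ → x j ^ r j = 1) (hx1 : ∀ j, j ≠ i₁ → x j ≠ 1)
    (hrp : ∀ j, j ≠ i₁ → r j ≠ p) (hc : ∀ i j, x i * x j = x j * x i) (hcov : Cov Ω x)
    {τ : G8 F} (h : Au τ) (hL : La σ (x i₁) (xt hG τ))
    {M : ι → G8 F} (hM : ∀ j, j ≠ i₁ → Lf (up σ) (x j) (M j))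
    (hl : ∀ j, j ≠ i₁ → Cfsg.Agent.H198.TriDia.IsLin (M j))
    (hd : ∀ j, j ≠ i₁ → ∀ u w, (M j).1 (dia τ u w) = dia τ ((M j).1 u) ((M j).1 w))
    {v w : V8 F} (k : Pr τ v w) (hv : ∀ j, j ≠ i₁ → (M j).1 v = v) (hw : ∀ j, j ≠ i₁ → (M j).1 w = w) : False := by
  classical
  set f := frame h k with hf
  have hF : ∀ j, j ≠ i₁ → Fix4 (M j) v w (dia τ v w) (dia τ w v) := fun j hj =>
    M_fix4 h (hl j hj) (hd j hj) (hv j hj) (hw j hj)
  set κ := f.kk with hκ
  have hκ3 : κ ^ 3 = 1 := f.kk_cube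
  set b := up σ (κ * κ) with hb
  have hbinv : b⁻¹ = up σ κ := by
    rw [inv_eq_iff_mul_eq_one, hb, ← map_mul, ← pow_two, ← pow_succ, hκ3, map_one]
  obtain ⟨H, hHF, hH⟩ := (im_kk hG h k).mul hG (im_kk hG h k)
  have hbL : Lf (up σ) b (tg (plusForm 4 F) (κ * κ)) := Lf.tg _
  set b₁ := x i₁ * b * (x i₁)⁻¹ with hb₁
  have hb₁L : Lf (up σ) b₁ H := hL.conj_lf hbL hH
  have hHκ : H * tg (plusForm 4 F) κ = tg (plusForm 4 F) κ * H := hHF.comm_kk f
  have hcb : ∀ j, j ≠ i₁ → b * x j = x j * b := by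
    intro j hj
    refine (comm_of_lf hE hσ (hM j hj) hbL ?_).symm
    rw [map_mul (tg (plusForm 4 F))]
    exact comm_mul ((hF j hj).comm_kk f) ((hF j hj).comm_kk f)
  have hbb : b * b₁ = b₁ * b := by
    refine (comm_of_lf hE hσ hb₁L hbL ?_).symm
    rw [map_mul (tg (plusForm 4 F))]
    exact comm_mul hHκ hHκ
  have hb3 : b ^ 3 = 1 := by
    rw [hb, ← map_pow, ← pow_two, ← pow_mul, mul_comm 2 3, pow_mul, hκ3, one_pow, map_one]
  have hb₁3 : b₁ ^ 3 = 1 := by rw [hb₁, conj_pow, hb3, mul_one, mul_inv_cancel]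
  set z := b⁻¹ * b₁ with hz
  have hz3 : z ^ 3 = 1 := by
    have : Commute b⁻¹ b₁ := (show Commute b b₁ from hbb).inv_left
    rw [hz, this.mul_pow, inv_pow, hb3, hb₁3, inv_one, mul_one]
  have hzL : Lf (up σ) z (tg (plusForm 4 F) κ * H) := by
    rw [hz, hbinv]
    exact (Lf.tg κ).mul hb₁L
  have hzx : ∀ j, j ≠ i₁ → z * x j = x j * z := by
    intro j hj
    have e1 : Commute b (x j) := hcb j hj
    have e2 : Commute (x i₁) (x j) := hc i₁ j
    have e3 : Commute b₁ (x j) := (e2.mul_left e1).mul_left e2.inv_left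
    exact (e1.inv_left.mul_left e3).eq
  have hzv : (tg (plusForm 4 F) κ * H).1 v = dia τ v w := by rw [appG, hHF.fv, tgE, hκ, f.kk_v]
  have hzp : (tg (plusForm 4 F) κ * H).1 (dia τ v w) = -v - dia τ v w := by rw [appG, hHF.fp, tgE, hκ, f.kk_p]
  have hz1 : z ≠ 1 := by
    intro h1
    rw [hzL.eq_one_iff hG hE hσ.rep] at h1
    obtain ⟨a, ha, h2⟩ := h1
    have h3 := h2 v
    rw [hzv] at h3
    have h4 := congrArg (polar (plusForm 4 F) w) h3
    rw [f.wp, polar_smul_right, f.wv, smul_eq_mul, mul_one] at h4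
    exact ha h4.symm
  have hZs : ∀ c : F, ∀ y : V8 F, (tg (plusForm 4 F) κ * H).1 (c • y) = c • (tg (plusForm 4 F) κ * H).1 y := by
    intro c y
    rw [appG, appG, ss_smul hHF.ss, tgE, tgE, map_smul]
  have hZa : ∀ y y' : V8 F, (tg (plusForm 4 F) κ * H).1 (y + y') = (tg (plusForm 4 F) κ * H).1 y +
      (tg (plusForm 4 F) κ * H).1 y' := by
    intro y y'
    rw [appG, appG, appG, hHF.ss.add, tgE, tgE, tgE, map_add]
  have hcov' : Cov Ω (Function.update x i₁ z) := mv_one hcov hcb rfl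
  refine H297.RC.box_LR hG hE hσ.rep (p := p) (y := Function.update x i₁ z)
    (M := Function.update M i₁ (tg (plusForm 4 F) κ * H)) (r := Function.update r i₁ 3) ?_ ?_ ?_ ?_ ?_ ?_
    (u := v) (w := dia τ v w) f.Qv f.Qp f.vp ?_ ?_ ?_ (fun ω => Or.inr (hcov' ω))
  · intro i
    by_cases hi : i = i₁
    · subst hi; rw [Function.update_self, Function.update_self]; exact hzL
    · rw [Function.update_of_ne hi, Function.update_of_ne hi]; exact hM i hi
  · intro i
    by_cases hi : i = i₁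
    · subst hi; rw [Function.update_self]; exact Nat.prime_three
    · rw [Function.update_of_ne hi]; exact hr i hi
  · intro i
    by_cases hi : i = i₁
    · subst hi; rw [Function.update_self]; exact hp3.symm
    · rw [Function.update_of_ne hi]; exact hrp i hi
  · intro i
    by_cases hi : i = i₁
    · subst hi; rw [Function.update_self, Function.update_self]; exact hz3
    · rw [Function.update_of_ne hi, Function.update_of_ne hi]; exact hx i hi
  · intro i
    by_cases hi : i = i₁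
    · subst hi; rw [Function.update_self]; exact hz1
    · rw [Function.update_of_ne hi]; exact hx1 i hi
  · intro i j
    by_cases hi : i = i₁
    · subst hi
      by_cases hj : j = i
      · subst hj; rfl
      · rw [Function.update_self, Function.update_of_ne hj]; exact hzx j hj
    · by_cases hj : j = i₁
      · subst hj
        rw [Function.update_self, Function.update_of_ne hi]; exact (hzx i hi).symm
      · rw [Function.update_of_ne hi, Function.update_of_ne hj]; exact hc i j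
  · intro h0
    have := f.vw
    rw [h0, polar_zero_left] at this
    exact zero_ne_one this
  · intro a ha
    have h1 := congrArg (fun z => polar (plusForm 4 F) z (dia τ w v)) ha
    beta_reduce at h1
    rw [f.pq, polar_smul_left, f.vq, smul_zero] at h1
    exact one_ne_zero h1
  · intro i y hy
    obtain ⟨a, c, rfl⟩ := Submodule.mem_span_pair.1 hy
    rw [Submodule.mem_span_pair]
    by_cases hi : i = i₁
    · subst hi
      rw [Function.update_self, hZa, hZs, hZs, hzv, hzp]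
      exact ⟨-c, a - c, by module⟩
    · rw [Function.update_of_ne hi, (hF i hi).ss.add, ss_smul (hF i hi).ss, ss_smul (hF i hi).ss, (hF i hi).fv,
        (hF i hi).fp]
      exact ⟨a, c, rfl⟩

end Cfsg.Agent.H442.RC.TriB
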