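import Cfsg.Agent.H442.RC.K1

/-!
# S3510, triality: the second kill lemma

`mv3` : replacing `x i` by `A (x i B x i⁻¹)` of order `3`, `A`, `B` commuting with the other members, `(A B) ^ p = 1`.
`kill_two`: `x i₁` a linear triality automorphism, `x i₀` acts on the frame as `Ap 1 Bp 3 Am 1 Bm 3`, all other members
`p'`-elements whose exact lifts fix the frame.
-/

set_option autoImplicit false
set_option linter.unusedSectionVars false

namespace Cfsg.Agent.H442.RC.TriB

open Module QuadraticMap Cfsg.Agent.LieClassical.OrthCore Cfsg.Agent.LieClassical.OrthTrans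
  Cfsg.Agent.LieClassical.OrthSimple Cfsg.Agent.ClassicalGeometry.OrthAut1
  Cfsg.Agent.ClassicalGeometry.OrthSemi Cfsg.Agent.H198.Classes
  Cfsg.Agent.LieClassical.QuadForms Cfsg.Agent.H198.ClassesPlus
  Cfsg.Agent.ClassicalGeometry.TrialityOct Cfsg.Agent.ClassicalGeometry.Triality
  Cfsg.Agent.ClassicalGeometry.TrialitySpaces Cfsg.Agent.H198.TriBase Cfsg.Agent.H198.TriAut
  Cfsg.Agent.H198.TriDia Cfsg.Agent.H566.RC Cfsg.Agent.AutOrth.SemiSim Cfsg.Agent.H106.RC Cfsg.Agent.H93.RC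

universe u

variable {F : Type u} [Field F]

section mv

variable {G Ω ι : Type*} [Group G] [MulAction G Ω] [DecidableEq ι]

/-- the quotient trick -/
theorem mv3 {x : ι → G} (h : Cov Ω x) (i : ι) {A B : G} (hA : ∀ j, j ≠ i → A * x j = x j * A)
    (hB : ∀ j, j ≠ i → B * x j = x j * B) (hx : ∀ j, x i * x j = x j * x i) {p : ℕ} (hp : p.Coprime 3)
    (h1 : (A * B) ^ p = 1) (h2 : (A * (x i * B * (x i)⁻¹)) ^ 3 = 1) :
    Cov Ω (Function.update x i (A * (x i * B * (x i)⁻¹))) := by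
  apply h.mv
  set C := Subgroup.closure {z | ∃ c : G, (∀ j, j ≠ i → c * x j = x j * c) ∧ z = c * x i * c⁻¹} with hC
  let Z : Subgroup G :=
    { carrier := {c | ∀ j, j ≠ i → Commute c (x j)}
      mul_mem' := fun ha hb j hj => (ha j hj).mul_left (hb j hj)
      one_mem' := fun j _ => Commute.one_left _
      inv_mem' := fun ha j hj => (ha j hj).inv_left }
  have hZ : ∀ c, c ∈ Z ↔ ∀ j, j ≠ i → c * x j = x j * c := fun c => Iff.rfl
  have hAZ : A ∈ Z := hA
  have hBZ : B ∈ Z := hB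
  have hyZ : x i ∈ Z := fun j _ => hx j
  let K : Subgroup Z := C.subgroupOf Z
  have hK : K.Normal := by
    constructor
    intro n hn g
    rw [Subgroup.mem_subgroupOf] at hn ⊢
    have h3 : C ≤ C.comap (MulAut.conj (g : G)).toMonoidHom := by
      rw [hC, Subgroup.closure_le]
      rintro _ ⟨c, hc, rfl⟩
      rw [SetLike.mem_coe, Subgroup.mem_comap]
      apply Subgroup.subset_closure
      refine ⟨g * c, fun j hj => ?_, ?_⟩
      · exact (Commute.mul_left (g.2 j hj) (hc j hj)).eq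
      · change (g : G) * (c * x i * c⁻¹) * (g : G)⁻¹ = _
        group
    exact h3 hn
  have hyK : (⟨x i, hyZ⟩ : Z) ∈ K := by
    rw [Subgroup.mem_subgroupOf]
    exact Subgroup.subset_closure ⟨1, by simp, by simp⟩
  set a : Z := ⟨A, hAZ⟩
  set b : Z := ⟨B, hBZ⟩
  set y : Z := ⟨x i, hyZ⟩
  have hq : QuotientGroup.mk' K (a * (y * b * y⁻¹)) = QuotientGroup.mk' K (a * b) := by
    have hy1 : QuotientGroup.mk' K y = 1 := (QuotientGroup.eq_one_iff y).2 hyK
    rw [map_mul, map_mul, map_mul, map_inv, hy1, one_mul, inv_one, mul_one, ← map_mul]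
  have e1 : orderOf (QuotientGroup.mk' K (a * (y * b * y⁻¹))) ∣ p := by
    rw [orderOf_dvd_iff_pow_eq_one, hq, ← map_pow]
    have : (a * b) ^ p = 1 := Subtype.ext h1
    rw [this, map_one]
  have e2 : orderOf (QuotientGroup.mk' K (a * (y * b * y⁻¹))) ∣ 3 := by
    rw [orderOf_dvd_iff_pow_eq_one, ← map_pow]
    have : (a * (y * b * y⁻¹)) ^ 3 = 1 := Subtype.ext h2
    rw [this, map_one]
  have e3 := Nat.eq_one_of_dvd_coprimes hp e1 e2
  rw [orderOf_eq_one_iff] at e3
  have e4 := (QuotientGroup.eq_one_iff _).1 e3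
  rw [Subgroup.mem_subgroupOf] at e4
  exact e4

end mv

/-! ### Images of `L₊` -/

section im

variable {τ : G8 F} (hG : Good (plusForm 4 F)) (h : Au τ) {v w : V8 F} (k : Pr τ v w)

include h k

theorem xt_Ap (t : F) : xt hG τ * Psi (plusForm 4 F) (tg (plusForm 4 F) ((frame h k).Ap t)) * (xt hG τ)⁻¹ =
    Psi (plusForm 4 F) (tg (plusForm 4 F) ((frame h k).Am t)) := by
  have hv := norm_of_dia h k.vv
  have hb : plusForm 4 F ((-t) • dia τ v w) = 0 := by
    rw [QuadraticMap.map_smul, (frame h k).Qp, smul_zero]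
  have e := xt_sg h hv hb ((frame h k).vtp (-t)) hG
  rw [show (frame h k).Ap t = sg (plusForm 4 F) v ((-t) • dia τ v w) hv ((frame h k).vtp (-t)) from rfl, e]
  congr 1
  apply extG
  intro x
  rw [S1_apply, tgE, (frame h k).Am_apply, h.dia_smul_left, h.dia_smul_left, px_v h k]
  module

theorem xt_Bp (t : F) : xt hG τ * Psi (plusForm 4 F) (tg (plusForm 4 F) ((frame h k).Bp t)) * (xt hG τ)⁻¹ =
    Psi (plusForm 4 F) (tg (plusForm 4 F) ((frame h k).Bm t)) := by
  have hw := norm_of_dia h k.ww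
  have hb : plusForm 4 F ((-t) • dia τ w v) = 0 := by
    rw [QuadraticMap.map_smul, (frame h k).Qq, smul_zero]
  have e := xt_sg h hw hb ((frame h k).wtq (-t)) hG
  rw [show (frame h k).Bp t = sg (plusForm 4 F) w ((-t) • dia τ w v) hw ((frame h k).wtq (-t)) from rfl, e]
  congr 1
  apply extG
  intro x
  rw [S1_apply, tgE, (frame h k).Bm_apply, h.dia_smul_left, h.dia_smul_left, px_v h k.symm]
  module

end im

/-- **kill lemma 2** -/
theorem kill_two [Finite F] {G Ω : Type*} [Group G] [Finite G] [MulAction G Ω] [Nonempty Ω] {N : Subgroup G}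
    {σ : P8 F →* G} (hG : Good (plusForm 4 F)) (hE : Env G Ω N) (hσ : Rp (plusForm 4 F) N σ) {p : ℕ} [CharP F p]
    (hp3 : p ≠ 3) {ι : Type*} [Finite ι] {x : ι → G} {r : ι → ℕ} {i₁ i₀ : ι} (h01 : i₀ ≠ i₁)
    (hr : ∀ j, j ≠ i₁ → j ≠ i₀ → (r j).Prime) (hx : ∀ j, j ≠ i₁ → j ≠ i₀ → x j ^ r j = 1)
    (hx1 : ∀ j, j ≠ i₁ → j ≠ i₀ → x j ≠ 1) (hrp : ∀ j, j ≠ i₁ → j ≠ i₀ → r j ≠ p)
    (hc : ∀ i j, x i * x j = x j * x i) (hcov : Cov Ω x)
    {τ : G8 F} (h : Au τ) (hL : La σ (x i₁) (xt hG τ)) {v w : V8 F} (k : Pr τ v w)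
    {M : ι → G8 F} (hM : ∀ j, j ≠ i₁ → Lf (up σ) (x j) (M j))
    (hF : ∀ j, j ≠ i₁ → j ≠ i₀ → Fix4 (M j) v w (dia τ v w) (dia τ w v))
    (hY : Fix4 ((tg (plusForm 4 F) (((frame h k).Ap 1 * (frame h k).Bp 3) *
      ((frame h k).Am 1 * (frame h k).Bm 3)))⁻¹ * M i₀) v w (dia τ v w) (dia τ w v)) : False := by
  classical
  set f := frame h k with hf
  have hpp : p.Prime := CharP.char_is_prime F p
  have hpc : p.Coprime 3 := (Nat.coprime_primes hpp Nat.prime_three).2 hp3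
  -- commutation with elements having a lift fixing the frame
  have cA : ∀ {X : G} {H : G8 F}, Lf (up σ) X H → Fix4 H v w (dia τ v w) (dia τ w v) → ∀ t,
      Commute X (up σ (f.Am t)) := fun hX hH t => comm_of_lf hE hσ hX (Lf.tg _) (hH.comm_Am f t)
  have cB : ∀ {X : G} {H : G8 F}, Lf (up σ) X H → Fix4 H v w (dia τ v w) (dia τ w v) → ∀ t,
      Commute X (up σ (f.Bm t)) := fun hX hH t => comm_of_lf hE hσ hX (Lf.tg _) (hH.comm_Bm f t)
  have cA' : ∀ {X : G} {H : G8 F}, Lf (up σ) X H → Fix4 H v w (dia τ v w) (dia τ w v) → ∀ t,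
      Commute X (up σ (f.Ap t)) := fun hX hH t => comm_of_lf hE hσ hX (Lf.tg _) (hH.comm_Ap f t)
  have cB' : ∀ {X : G} {H : G8 F}, Lf (up σ) X H → Fix4 H v w (dia τ v w) (dia τ w v) → ∀ t,
      Commute X (up σ (f.Bp t)) := fun hX hH t => comm_of_lf hE hσ hX (Lf.tg _) (hH.comm_Bp f t)
  -- the elements
  set b := up σ (f.Ap 1 * f.Bp 3) with hb
  set gm := up σ (f.Am 1 * f.Bm 3) with hgm
  set x₁ := x i₁ with hx₁
  set y := x i₀ with hy
  set B1 := up σ (f.Bm 1) with hB1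
  set B3 := up σ (f.Bm 3) with hB3
  set κ := f.kk with hκ
  set kk := up σ κ with hkk
  have hκ3 : κ ^ 3 = 1 := f.kk_cube
  have hkk3 : kk ^ 3 = 1 := by rw [hkk, ← map_pow, hκ3, map_one]
  -- `y = b gm η`
  set η := (b * gm)⁻¹ * y with hη
  have hηL : Lf (up σ) η ((tg (plusForm 4 F) ((f.Ap 1 * f.Bp 3) * (f.Am 1 * f.Bm 3)))⁻¹ * M i₀) := by
    have e : b * gm = up σ ((f.Ap 1 * f.Bp 3) * (f.Am 1 * f.Bm 3)) := by rw [hb, hgm, ← map_mul]
    rw [hη, e]
    exact (Lf.tg _).inv.mul (hM i₀ h01)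
  have hyη : y = b * gm * η := by rw [hη]; group
  -- commutation of `L₊` and `L₋`
  have cPA : ∀ t, Commute b (up σ (f.Am t)) := by
    intro t
    change b * _ = _ * b
    rw [hb, ← map_mul, ← map_mul]
    congr 1
    rw [mul_assoc, ← f.AmBp, ← mul_assoc, ← f.AmAp, mul_assoc]
  have cPB : ∀ t, Commute b (up σ (f.Bm t)) := by
    intro t
    change b * _ = _ * b
    rw [hb, ← map_mul, ← map_mul]
    congr 1
    rw [mul_assoc, ← f.BmBp, ← mul_assoc, ← f.BmAp, mul_assoc]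
  have cbg : Commute b gm := by rw [hgm, map_mul]; exact (cPA 1).mul_right (cPB 3)
  have cηb : Commute η b := by rw [hb, map_mul]; exact (cA' hηL hY 1).mul_right (cB' hηL hY 3)
  have cby : Commute b y := by
    rw [hyη]
    exact ((Commute.refl b).mul_right cbg).mul_right cηb.symm
  -- images under `x₁`
  have imA : x₁ * b * x₁⁻¹ = gm := by
    have e1 : x₁ * up σ (f.Ap 1) * x₁⁻¹ = up σ (f.Am 1) :=
      eq_of_lf hE hσ (hL.conj_lf (Lf.tg _) (xt_Ap hG h k 1)) (Lf.tg _)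
    have e2 : x₁ * up σ (f.Bp 3) * x₁⁻¹ = up σ (f.Bm 3) :=
      eq_of_lf hE hσ (hL.conj_lf (Lf.tg _) (xt_Bp hG h k 3)) (Lf.tg _)
    rw [hb, hgm, map_mul, map_mul, ← e1, ← e2]
    group
  -- conjugation of `B1`
  have hconj : gm * B1 * gm⁻¹ = up σ (f.Am 1 * f.Bm 1 * f.Am (-1)) := by
    rw [hgm, hB1, ← map_inv, ← map_mul, ← map_mul]
    congr 1
    rw [mul_inv_rev, f.Am_inv, f.Bm_inv]
    have e : f.Am 1 * f.Bm 3 * f.Bm 1 * (f.Bm (-3) * f.Am (-1)) = f.Am 1 * (f.Bm 3 * f.Bm 1 * f.Bm (-3)) * f.Am (-1) := by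
      group
    rw [e, f.Bm_add, f.Bm_add]
    norm_num
  have hkkB : kk = B3 * (gm * B1 * gm⁻¹) := by
    rw [hconj, hkk, hκ, Fr.kk, map_mul]
  have hyB : y * B1 * y⁻¹ = gm * B1 * gm⁻¹ := by
    have c1 : Commute η B1 := cB hηL hY 1
    have c2 : Commute b (gm * B1 * gm⁻¹) := (cbg.mul_right (cPB 1)).mul_right cbg.inv_right
    calc y * B1 * y⁻¹ = b * gm * (η * B1 * η⁻¹) * gm⁻¹ * b⁻¹ := by rw [hyη]; group
      _ = b * (gm * B1 * gm⁻¹) * b⁻¹ := by rw [c1.eq, mul_inv_cancel_right]; group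
      _ = _ := by rw [c2.eq, mul_inv_cancel_right]
  -- step 1
  set z := b⁻¹ * gm with hz
  have hcb : ∀ j, j ≠ i₁ → b * x j = x j * b := by
    intro j hj
    by_cases hj0 : j = i₀
    · subst hj0; exact cby
    · exact (comm_of_lf hE hσ (hM j hj) (Lf.tg _) (by
        rw [map_mul (tg (plusForm 4 F))]
        exact comm_mul ((hF j hj hj0).comm_Ap f 1) ((hF j hj hj0).comm_Bp f 3))).symm
  have cov1 : Cov Ω (Function.update x i₁ z) := mv_one hcov hcb imA.symm
  have czy : Commute z y := by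
    have e1 : Commute x₁ y := hc i₁ i₀
    have e2 : Commute gm y := by
      rw [← imA]
      exact (e1.mul_left cby).mul_left e1.inv_left
    exact cby.inv_left.mul_left e2
  have hxj : ∀ j, j ≠ i₁ → Commute z (x j) := by
    intro j hj
    have e1 : Commute x₁ (x j) := hc i₁ j
    have e0 : Commute b (x j) := hcb j hj
    have e2 : Commute gm (x j) := by
      rw [← imA]
      exact (e1.mul_left e0).mul_left e1.inv_left
    exact e0.inv_left.mul_left e2
  have hzB : z * B1 * z⁻¹ = gm * B1 * gm⁻¹ := by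
    have c2 : Commute b (gm * B1 * gm⁻¹) := (cbg.mul_right (cPB 1)).mul_right cbg.inv_right
    calc z * B1 * z⁻¹ = b⁻¹ * (gm * B1 * gm⁻¹) * b := by rw [hz]; group
      _ = _ := by rw [c2.inv_left.eq, inv_mul_cancel_right]
  -- step 2
  set y₀ := x₁ * kk * x₁⁻¹ with hy₀
  have hy₀3 : y₀ ^ 3 = 1 := by rw [hy₀, conj_pow, hkk3, mul_one, mul_inv_cancel]
  obtain ⟨H0, hH0, hH0'⟩ := im_kk hG h k
  have hy₀L : Lf (up σ) y₀ H0 := hL.conj_lf (Lf.tg _) hH0'
  -- the elements `x₁ B x₁⁻¹`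
  have hB0 : ∀ t, ∀ j, j ≠ i₀ → Commute (x₁ * up σ (f.Bm t) * x₁⁻¹) (Function.update x i₁ z j) := by
    intro t j hj
    obtain ⟨H, hH, hH'⟩ := im_Bm hG h k t
    have hL1 : Lf (up σ) (x₁ * up σ (f.Bm t) * x₁⁻¹) H := hL.conj_lf (Lf.tg _) hH'
    by_cases hj1 : j = i₁
    · subst hj1
      rw [Function.update_self, hz, hb, hgm, map_mul, map_mul]
      exact ((cA' hL1 hH 1).mul_right (cB' hL1 hH 3)).inv_right.mul_right ((cA hL1 hH 1).mul_right (cB hL1 hH 3))
    · rw [Function.update_of_ne hj1]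
      have e1 : Commute x₁ (x j) := hc i₁ j
      have e2 : Commute (up σ (f.Bm t)) (x j) := (cB (hM j hj1) (hF j hj1 hj) t).symm
      exact (e1.mul_left e2).mul_left e1.inv_left
  have hBp : ∀ t, (up σ (f.Bm t)) ^ p = 1 := by
    intro t
    rw [← map_pow, f.Bm_pow, CharP.cast_eq_zero F p, zero_mul, f.Bm_zero, map_one]
  have hy₀B : y₀ = (x₁ * B3 * x₁⁻¹) * (y * (x₁ * B1 * x₁⁻¹) * y⁻¹) := by
    have e1 : y * x₁ = x₁ * y := hc i₀ i₁
    have e2 : y * (x₁ * B1 * x₁⁻¹) * y⁻¹ = x₁ * (y * B1 * y⁻¹) * x₁⁻¹ := by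
      calc y * (x₁ * B1 * x₁⁻¹) * y⁻¹ = (y * x₁) * B1 * (y * x₁)⁻¹ := by group
        _ = _ := by rw [e1]; group
    rw [e2, hyB, hy₀, hkkB]
    group
  have cov2 : Cov Ω (Function.update (Function.update x i₁ z) i₀ y₀) := by
    have e0 : (Function.update x i₁ z) i₀ = y := Function.update_of_ne h01 _ _
    have key := mv3 cov1 i₀ (A := x₁ * B3 * x₁⁻¹) (B := x₁ * B1 * x₁⁻¹) (hB0 3) (hB0 1) (p := p) (by
      intro j
      rw [e0]
      by_cases hj1 : j = i₁
      · subst hj1; rw [Function.update_self]; exact czy.symm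
      · rw [Function.update_of_ne hj1]; exact hc i₀ j) hpc (by
        have e : x₁ * B3 * x₁⁻¹ * (x₁ * B1 * x₁⁻¹) = x₁ * up σ (f.Bm 4) * x₁⁻¹ := by
          have e4 : up σ (f.Bm 4) = B3 * B1 := by
            rw [hB3, hB1, ← map_mul, f.Bm_add]
            norm_num
          rw [e4]; group
        rw [e, conj_pow, hBp, mul_one, mul_inv_cancel]) (by
        rw [e0, ← hy₀B]; exact hy₀3)
    rw [e0, ← hy₀B] at key
    exact key
  -- step 3
  have cxy₀ : ∀ j, j ≠ i₁ → j ≠ i₀ → Commute y₀ (x j) := by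
    intro j hj1 hj0
    have e1 : Commute x₁ (x j) := hc i₁ j
    have e2 : Commute kk (x j) := (comm_of_lf hE hσ (hM j hj1) (Lf.tg _) ((hF j hj1 hj0).comm_kk f)).symm
    exact (e1.mul_left e2).mul_left e1.inv_left
  have czy₀ : Commute z y₀ := by
    have h1 : Commute y₀ z := by
      rw [hz, hb, hgm, map_mul, map_mul]
      exact ((cA' hy₀L hH0 1).mul_right (cB' hy₀L hH0 3)).inv_right.mul_right ((cA hy₀L hH0 1).mul_right (cB hy₀L hH0 3))
    exact h1.symm
  have hB2 : ∀ t, ∀ j, j ≠ i₁ → Commute (up σ (f.Bm t)) (Function.update (Function.update x i₁ z) i₀ y₀ j) := by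
    intro t j hj1
    by_cases hj0 : j = i₀
    · subst hj0; rw [Function.update_self]; exact (cB hy₀L hH0 t).symm
    · rw [Function.update_of_ne hj0, Function.update_of_ne hj1]
      exact (cB (hM j hj1) (hF j hj1 hj0) t).symm
  have cov3 : Cov Ω (Function.update (Function.update (Function.update x i₁ z) i₀ y₀) i₁ kk) := by
    have e0 : (Function.update (Function.update x i₁ z) i₀ y₀) i₁ = z := by
      rw [Function.update_of_ne h01.symm, Function.update_self]
    have ek : B3 * (z * B1 * z⁻¹) = kk := by rw [hzB, ← hkkB]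
    have key := mv3 cov2 i₁ (A := B3) (B := B1) (hB2 3) (hB2 1) (p := p) (by
      intro j
      rw [e0]
      by_cases hj0 : j = i₀
      · subst hj0; rw [Function.update_self]; exact czy₀
      · rw [Function.update_of_ne hj0]
        by_cases hj1 : j = i₁
        · subst hj1; rw [Function.update_self]
        · rw [Function.update_of_ne hj1]; exact hxj j hj1) hpc (by
        have e4 : B3 * B1 = up σ (f.Bm 4) := by
          rw [hB3, hB1, ← map_mul, f.Bm_add]
          norm_num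
        rw [e4, hBp]) (by rw [e0, ek]; exact hkk3)
    rw [e0, ek] at key
    exact key
  -- the final family
  have hkkv : (tg (plusForm 4 F) κ).1 v = dia τ v w := f.kk_v
  have hkkp : (tg (plusForm 4 F) κ).1 (dia τ v w) = -v - dia τ v w := f.kk_p
  have hkkL : Lf (up σ) kk (tg (plusForm 4 F) κ) := Lf.tg _
  have hkk1 : kk ≠ 1 := by
    intro h1
    rw [hkkL.eq_one_iff hG hE hσ.rep] at h1
    obtain ⟨a, ha, h2⟩ := h1
    have h3 := h2 v
    rw [hkkv] at h3
    have h4 := congrArg (polar (plusForm 4 F) w) h3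
    rw [f.wp, polar_smul_right, f.wv, smul_eq_mul, mul_one] at h4
    exact ha h4.symm
  have hy₀1 : y₀ ≠ 1 := by
    intro h1
    apply hkk1
    rw [hy₀, mul_inv_eq_one] at h1
    exact mul_left_cancel (h1.trans (mul_one _).symm)
  set X := Function.update (Function.update (Function.update x i₁ z) i₀ y₀) i₁ kk with hX
  have X1 : X i₁ = kk := Function.update_self _ _ _
  have X0 : X i₀ = y₀ := by rw [hX, Function.update_of_ne h01, Function.update_self]
  have Xj : ∀ j, j ≠ i₁ → j ≠ i₀ → X j = x j := fun j h1 h0 => by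
    rw [hX, Function.update_of_ne h1, Function.update_of_ne h0, Function.update_of_ne h1]
  set L := Function.update (Function.update M i₀ H0) i₁ (tg (plusForm 4 F) κ) with hLd
  have L1 : L i₁ = tg (plusForm 4 F) κ := Function.update_self _ _ _
  have L0 : L i₀ = H0 := by rw [hLd, Function.update_of_ne h01, Function.update_self]
  have Lj : ∀ j, j ≠ i₁ → j ≠ i₀ → L j = M j := fun j h1 h0 => by
    rw [hLd, Function.update_of_ne h1, Function.update_of_ne h0]
  set R := Function.update (Function.update r i₀ 3) i₁ 3 with hR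
  have R1 : R i₁ = 3 := Function.update_self _ _ _
  have R0 : R i₀ = 3 := by rw [hR, Function.update_of_ne h01, Function.update_self]
  have Rj : ∀ j, j ≠ i₁ → j ≠ i₀ → R j = r j := fun j h1 h0 => by
    rw [hR, Function.update_of_ne h1, Function.update_of_ne h0]
  clear_value X L R
  have cases3 : ∀ {P : ι → Prop}, P i₁ → P i₀ → (∀ j, j ≠ i₁ → j ≠ i₀ → P j) → ∀ j, P j := by
    intro P h1 h0 hj j
    by_cases e1 : j = i₁
    · subst e1; exact h1
    · by_cases e0 : j = i₀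
      · subst e0; exact h0
      · exact hj j e1 e0
  have ckj : ∀ j, j ≠ i₁ → j ≠ i₀ → Commute kk (x j) := fun j hj1 hj0 =>
    (comm_of_lf hE hσ (hM j hj1) (Lf.tg _) ((hF j hj1 hj0).comm_kk f)).symm
  have cky : Commute kk y₀ := (comm_of_lf hE hσ hy₀L hkkL (hH0.comm_kk f)).symm
  refine H297.RC.box_LR hG hE hσ.rep (p := p) (y := X) (M := L) (r := R) ?_ ?_ ?_ ?_ ?_ ?_
    (u := v) (w := dia τ v w) f.Qv f.Qp f.vp ?_ ?_ ?_ (fun ω => Or.inr (cov3 ω))
  · refine cases3 ?_ ?_ ?_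
    · rw [X1, L1]; exact hkkL
    · rw [X0, L0]; exact hy₀L
    · intro j h1 h0; rw [Xj j h1 h0, Lj j h1 h0]; exact hM j h1
  · refine cases3 ?_ ?_ ?_
    · rw [R1]; exact Nat.prime_three
    · rw [R0]; exact Nat.prime_three
    · intro j h1 h0; rw [Rj j h1 h0]; exact hr j h1 h0
  · refine cases3 ?_ ?_ ?_
    · rw [R1]; exact hp3.symm
    · rw [R0]; exact hp3.symm
    · intro j h1 h0; rw [Rj j h1 h0]; exact hrp j h1 h0
  · refine cases3 ?_ ?_ ?_
    · rw [X1, R1]; exact hkk3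
    · rw [X0, R0]; exact hy₀3
    · intro j h1 h0; rw [Xj j h1 h0, Rj j h1 h0]; exact hx j h1 h0
  · refine cases3 ?_ ?_ ?_
    · rw [X1]; exact hkk1
    · rw [X0]; exact hy₀1
    · intro j h1 h0; rw [Xj j h1 h0]; exact hx1 j h1 h0
  · refine cases3 ?_ ?_ ?_
    · refine cases3 rfl ?_ ?_
      · rw [X1, X0]; exact cky
      · intro j h1 h0; rw [X1, Xj j h1 h0]; exact ckj j h1 h0
    · refine cases3 ?_ rfl ?_
      · rw [X1, X0]; exact cky.symm
      · intro j h1 h0; rw [X0, Xj j h1 h0]; exact cxy₀ j h1 h0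
    · intro i h1 h0
      refine cases3 ?_ ?_ ?_
      · rw [X1, Xj i h1 h0]; exact (ckj i h1 h0).symm
      · rw [X0, Xj i h1 h0]; exact (cxy₀ i h1 h0).symm
      · intro j h1' h0'; rw [Xj i h1 h0, Xj j h1' h0']; exact hc i j
  · intro h0
    have := f.vw
    rw [h0, polar_zero_left] at this
    exact zero_ne_one this
  · intro a ha
    have h1 := congrArg (fun z => polar (plusForm 4 F) z (dia τ w v)) ha
    beta_reduce at h1
    rw [f.pq, polar_smul_left, f.vq, smul_zero] at h1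
    exact one_ne_zero h1
  · have hfix : ∀ {H : G8 F}, Fix4 H v w (dia τ v w) (dia τ w v) → ∀ y ∈ Submodule.span F {v, dia τ v w},
        H.1 y ∈ Submodule.span F {v, dia τ v w} := by
      intro H hH y hy
      obtain ⟨a, c, rfl⟩ := Submodule.mem_span_pair.1 hy
      rw [Submodule.mem_span_pair, hH.ss.add, ss_smul hH.ss, ss_smul hH.ss, hH.fv, hH.fp]
      exact ⟨a, c, rfl⟩
    refine cases3 ?_ ?_ ?_
    · intro y hy
      obtain ⟨a, c, rfl⟩ := Submodule.mem_span_pair.1 hy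
      have e1 : (tg (plusForm 4 F) κ).1 (a • v + c • dia τ v w) =
          a • (tg (plusForm 4 F) κ).1 v + c • (tg (plusForm 4 F) κ).1 (dia τ v w) := by
        rw [tgE, tgE, tgE, map_add, map_smul, map_smul]
      rw [L1, Submodule.mem_span_pair, e1, hkkv, hkkp]
      exact ⟨-c, a - c, by module⟩
    · rw [L0]; exact hfix hH0
    · intro j h1 h0; rw [Lj j h1 h0]; exact hfix (hF j h1 h0)

end Cfsg.Agent.H442.RC.TriB
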