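import Cfsg.Agent.H442.RC.K2
import Cfsg.Agent.H989.OkuboRoot
import Cfsg.Agent.H669.TriBal
import Cfsg.Agent.H746.BRigid
import Cfsg.Agent.H237.RC.TriPair

/-!
# S3510, triality of type (ii): kill lemmas for the Okubo product

`kill_three`: `v ⋄ v = 0`, `b(v, M i₀ v) ≠ 0`, the other members are `p'`-elements fixing `v`.
`kill_uni`: the cover has only the two members `x i₁`, `x i₀`.
-/

set_option autoImplicit false
set_option linter.unusedSectionVars false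

namespace Cfsg.Agent.H442.RC.TriB

open Module QuadraticMap Cfsg.Agent.LieClassical.OrthCore Cfsg.Agent.LieClassical.OrthTrans
  Cfsg.Agent.LieClassical.OrthSimple Cfsg.Agent.ClassicalGeometry.OrthAut1
  Cfsg.Agent.ClassicalGeometry.OrthSemi Cfsg.Agent.H198.Classes
  Cfsg.Agent.LieClassical.QuadForms Cfsg.Agent.H198.ClassesPlus
  Cfsg.Agent.ClassicalGeometry.TrialityOct Cfsg.Agent.ClassicalGeometry.Triality
  Cfsg.Agent.ClassicalGeometry.TrialitySpaces Cfsg.Agent.H198.TriBase Cfsg.Agent.H198.TriAut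
  Cfsg.Agent.H198.TriDia Cfsg.Agent.H198.TriSpec Cfsg.Agent.H566.RC Cfsg.Agent.AutOrth.SemiSim
  Cfsg.Agent.H106.RC Cfsg.Agent.H93.RC Cfsg.Agent.H989.OkuboRoot

universe u

variable {F : Type u} [Field F]

/-- root elements in `E Q` -/
theorem exists_rtE [Finite F] (h3 : (3 : F) ≠ 0) (hG : Good (plusForm 4 F)) {v : V8 F} (hv : dia (tauB F) v v = 0) :
    ∃ α : ↥(E (plusForm 4 F)), (∀ z, (α : V8 F ≃ₗ[F] V8 F) z = rtF v z) ∧
      ∀ x y, (α : V8 F ≃ₗ[F] V8 F) (dia (tauB F) x y) =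
        dia (tauB F) ((α : V8 F ≃ₗ[F] V8 F) x) ((α : V8 F ≃ₗ[F] V8 F) y) := by
  obtain ⟨g, ⟨hg, hg'⟩, hg2⟩ := exists_rt h3 hG hv
  exact ⟨⟨g, hg⟩, hg2, hg'⟩

theorem map_rtG {Γ : G8 F} (hs : IsSS (plusForm 4 F) (RingEquiv.refl F) 1 Γ.1)
    (hd : ∀ x y, Γ.1 (dia (tauB F) x y) = dia (tauB F) (Γ.1 x) (Γ.1 y)) (v z : V8 F) :
    Γ.1 (rtF v z) = rtF (Γ.1 v) (Γ.1 z) := by
  rw [rtF, rtF, hs.add, hs.add, hs.sub, ss_smul hs, hd, hd, ss_polar hs]

theorem ss_of {Γ : G8 F} (hl : Cfsg.Agent.H198.TriDia.IsLin Γ)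
    (hd : ∀ x y, Γ.1 (dia (tauB F) x y) = dia (tauB F) (Γ.1 x) (Γ.1 y)) :
    IsSS (plusForm 4 F) (RingEquiv.refl F) 1 Γ.1 := by
  have h1 := isom_of_dia H237.RC.TP.au_tauB hl hd
  obtain ⟨c, hc⟩ := hl
  refine ⟨one_ne_zero, hc.add, hc.smul, fun x => ?_⟩
  rw [h1, one_mul]
  rfl

/-- `Γ α Γ⁻¹` -/
theorem conj_rt {Γ : G8 F} (hs : IsSS (plusForm 4 F) (RingEquiv.refl F) 1 Γ.1)
    (hd : ∀ x y, Γ.1 (dia (tauB F) x y) = dia (tauB F) (Γ.1 x) (Γ.1 y)) {v : V8 F} {α β : ↥(E (plusForm 4 F))}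
    (hα : ∀ z, (α : V8 F ≃ₗ[F] V8 F) z = rtF v z) (hβ : ∀ z, (β : V8 F ≃ₗ[F] V8 F) z = rtF (Γ.1 v) z) :
    Γ * tg (plusForm 4 F) α * Γ⁻¹ = tg (plusForm 4 F) β := by
  rw [mul_inv_eq_iff_eq_mul]
  apply extG
  intro z
  rw [appG, appG, tgE, tgE, hα, hβ, map_rtG hs hd]

/-- the powers of a root element -/
theorem rt_pow (h3 : (3 : F) ≠ 0) {v : V8 F} (hv : dia (tauB F) v v = 0) {α : ↥(E (plusForm 4 F))} {t : F}
    (hα : ∀ z, (α : V8 F ≃ₗ[F] V8 F) z = rtF (t • v) z) (n : ℕ) (z : V8 F) :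
    ((α ^ n : ↥(E (plusForm 4 F))) : V8 F ≃ₗ[F] V8 F) z = rtF ((n * t : F) • v) z := by
  induction n generalizing z with
  | zero =>
    rw [pow_zero, Nat.cast_zero, zero_mul, zero_smul, rt_zero]
    rfl
  | succ n ih =>
    rw [pow_succ, mulE, hα, ih, rt_add h3 hv, Nat.cast_succ, add_mul, one_mul]

theorem rt_charP (h3 : (3 : F) ≠ 0) {p : ℕ} [CharP F p] {v : V8 F} (hv : dia (tauB F) v v = 0)
    {α : ↥(E (plusForm 4 F))} {t : F} (hα : ∀ z, (α : V8 F ≃ₗ[F] V8 F) z = rtF (t • v) z) : α ^ p = 1 := by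
  apply extE
  intro z
  rw [rt_pow h3 hv hα, CharP.cast_eq_zero F p, zero_mul, zero_smul, rt_zero]
  rfl

theorem p_ne_three {p : ℕ} [CharP F p] (h3 : (3 : F) ≠ 0) : p ≠ 3 := by
  rintro rfl
  exact h3 (by exact_mod_cast CharP.cast_eq_zero F 3)

section act

variable [Finite F] (h3 : (3 : F) ≠ 0) {v w : V8 F} (k : Pr (tauB F) v w)

include k

theorem rt_frame {α β : ↥(E (plusForm 4 F))} (hα : ∀ z, (α : V8 F ≃ₗ[F] V8 F) z = rtF v z)
    (hβ : ∀ z, (β : V8 F ≃ₗ[F] V8 F) z = rtF ((3 : F) • w) z) :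
    Fix4 ((tg (plusForm 4 F) (((frame H237.RC.TP.au_tauB k).Ap 1 * (frame H237.RC.TP.au_tauB k).Bp 3) *
      ((frame H237.RC.TP.au_tauB k).Am 1 * (frame H237.RC.TP.au_tauB k).Bm 3)))⁻¹ *
      tg (plusForm 4 F) (α * β)) v w (dia (tauB F) v w) (dia (tauB F) w v) := by
  have h : Au (tauB F) := H237.RC.TP.au_tauB
  set f := frame H237.RC.TP.au_tauB k with hf
  set γ := (f.Ap 1 * f.Bp 3) * (f.Am 1 * f.Bm 3) with hγ
  have b1 : ∀ z, (β : V8 F ≃ₗ[F] V8 F) z = z + (3 : F) • (dia (tauB F) z w - dia (tauB F) w z) +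
      (9 * polar (plusForm 4 F) w z) • w := by
    intro z
    rw [hβ, rtF, h.dia_smul_left, h.dia_smul_right, polar_smul_left, smul_eq_mul, smul_smul]
    module
  have av : (α : V8 F ≃ₗ[F] V8 F) v = v := by rw [hα, rtF, k.vv, pself f.Qv]; simp
  have aw : (α : V8 F ≃ₗ[F] V8 F) w = w + dia (tauB F) w v - dia (tauB F) v w + v := by
    rw [hα, rtF, f.vw, one_smul]; abel
  have ap : (α : V8 F ≃ₗ[F] V8 F) (dia (tauB F) v w) = dia (tauB F) v w - v := by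
    rw [hα, rtF, f.vp, p_v h k, v_p h k]; simp [sub_eq_add_neg]
  have aq : (α : V8 F ≃ₗ[F] V8 F) (dia (tauB F) w v) = dia (tauB F) w v + v := by
    rw [hα, rtF, f.vq, q_v h k, v_q h k]; simp
  have key : ∀ c, (γ : V8 F ≃ₗ[F] V8 F) c = (α : V8 F ≃ₗ[F] V8 F) ((β : V8 F ≃ₗ[F] V8 F) c) →
      ((tg (plusForm 4 F) γ)⁻¹ * tg (plusForm 4 F) (α * β)).1 c = c := by
    intro c hc
    rw [appG, tgE, mulE, ← hc, ← tgE]
    exact inv_appG _ _
  refine ⟨?_, key _ ?_, key _ ?_, key _ ?_, key _ ?_⟩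
  · have e : (tg (plusForm 4 F) γ)⁻¹ * tg (plusForm 4 F) (α * β) = tg (plusForm 4 F) (γ⁻¹ * (α * β)) := by
      rw [map_mul (tg (plusForm 4 F)) γ⁻¹, map_inv (tg (plusForm 4 F)) γ]
    rw [e]
    set δ := γ⁻¹ * (α * β)
    exact ⟨one_ne_zero, fun x y => map_add (δ : V8 F ≃ₗ[F] V8 F) x y, fun a x => map_smul (δ : V8 F ≃ₗ[F] V8 F) a x,
      fun x => by rw [one_mul]; exact E_le_O δ.2 x⟩
  · rw [b1, f.wv, map_add, map_add, map_smul, map_smul, map_sub, av, ap, aq, aw, hγ]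
    frs f
    module
  · rw [b1, pself f.Qw, k.ww, sub_self, smul_zero, add_zero, mul_zero, zero_smul, add_zero, aw, hγ]
    frs f
    module
  · rw [b1, f.wp, p_w h k, w_p h k, sub_zero, mul_zero, zero_smul, add_zero, map_add, map_smul, ap, aw, hγ]
    frs f
    module
  · rw [b1, f.wq, q_w h k, w_q h k, zero_sub, mul_zero, zero_smul, add_zero, map_add, map_smul, map_neg, aq, aw, hγ]
    frs f
    module

end act

/-- an element of `E Q` preserving the product commutes with `x i₁` -/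
theorem comm_x1 {G Ω : Type*} [Group G] [MulAction G Ω] {N : Subgroup G} {σ : P8 F →* G}
    (hG : Good (plusForm 4 F)) (hE : Env G Ω N) (hσ : Rp (plusForm 4 F) N σ) {x₁ : G} (hL : La σ x₁ (xt hG (tauB F)))
    {α : ↥(E (plusForm 4 F))} (hα : ∀ x y, (α : V8 F ≃ₗ[F] V8 F) (dia (tauB F) x y) =
        dia (tauB F) ((α : V8 F ≃ₗ[F] V8 F) x) ((α : V8 F ≃ₗ[F] V8 F) y)) : Commute x₁ (up σ α) := by
  have h1 : xt hG (tauB F) * Psi (plusForm 4 F) (tg (plusForm 4 F) α) * (xt hG (tauB F))⁻¹ =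
      Psi (plusForm 4 F) (tg (plusForm 4 F) α) :=
    xt_psi hG H237.RC.TP.au_tauB (M₂ := tg (plusForm 4 F) α) hα
  have h2 : x₁ * up σ α * x₁⁻¹ = up σ α := eq_of_lf hE hσ (hL.conj_lf (Lf.tg _) h1) (Lf.tg _)
  exact mul_inv_eq_iff_eq_mul.1 h2

/-- **kill lemma 3** -/
theorem kill_three [Finite F] (h3 : (3 : F) ≠ 0) {G Ω : Type*} [Group G] [Finite G] [MulAction G Ω] [Nonempty Ω]
    {N : Subgroup G} {σ : P8 F →* G} (hG : Good (plusForm 4 F)) (hE : Env G Ω N) (hσ : Rp (plusForm 4 F) N σ)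
    {p : ℕ} [CharP F p] {ι : Type*} [Finite ι] {x : ι → G} {r : ι → ℕ} {i₁ i₀ : ι} (h01 : i₀ ≠ i₁)
    (hr : ∀ j, j ≠ i₁ → j ≠ i₀ → (r j).Prime) (hx : ∀ j, j ≠ i₁ → j ≠ i₀ → x j ^ r j = 1)
    (hx1 : ∀ j, j ≠ i₁ → j ≠ i₀ → x j ≠ 1) (hrp : ∀ j, j ≠ i₁ → j ≠ i₀ → r j ≠ p)
    (hc : ∀ i j, x i * x j = x j * x i) (hcov : Cov Ω x) (hL : La σ (x i₁) (xt hG (tauB F)))
    {M : ι → G8 F} (hM : ∀ j, j ≠ i₁ → Lf (up σ) (x j) (M j))
    (hl : ∀ j, j ≠ i₁ → Cfsg.Agent.H198.TriDia.IsLin (M j))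
    (hd : ∀ j, j ≠ i₁ → ∀ u w, (M j).1 (dia (tauB F) u w) = dia (tauB F) ((M j).1 u) ((M j).1 w))
    {v : V8 F} (hv0 : dia (tauB F) v v = 0) (hv : ∀ j, j ≠ i₁ → j ≠ i₀ → (M j).1 v = v)
    (hcm : ∀ j, j ≠ i₁ → j ≠ i₀ → M j * M i₀ = M i₀ * M j)
    (hpol : polar (plusForm 4 F) v ((M i₀).1 v) ≠ 0) : False := by
  classical
  have h : Au (tauB F) := H237.RC.TP.au_tauB
  set c := polar (plusForm 4 F) v ((M i₀).1 v) with hcd
  set Γ := M i₀ with hΓ
  have hss : ∀ j, j ≠ i₁ → IsSS (plusForm 4 F) (RingEquiv.refl F) 1 (M j).1 := fun j hj => ss_of (hl j hj) (hd j hj)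
  have hssΓ := hss i₀ h01
  have hdΓ := hd i₀ h01
  have hw'0 : dia (tauB F) (Γ.1 v) (Γ.1 v) = 0 := by
    rw [← hdΓ, hv0]
    have e := ss_smul hssΓ 0 v
    rw [zero_smul, zero_smul] at e
    exact e
  set w := c⁻¹ • Γ.1 v with hw
  have hww : dia (tauB F) w w = 0 := smul_dia hw'0 c⁻¹
  have k : Pr (tauB F) v w := ⟨hv0, hww, by rw [hw, polar_smul_right, ← hcd, smul_eq_mul, inv_mul_cancel₀ hpol]⟩
  have hwj : ∀ j, j ≠ i₁ → j ≠ i₀ → (M j).1 w = w := by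
    intro j h1 h0
    have e : (M j).1 (Γ.1 v) = Γ.1 v := by
      have e1 := congrArg (fun X : G8 F => X.1 v) (hcm j h1 h0)
      change (M j).1 (Γ.1 v) = Γ.1 ((M j).1 v) at e1
      rw [e1, hv j h1 h0]
    rw [hw, ss_smul (hss j h1), e]
  have hF : ∀ j, j ≠ i₁ → j ≠ i₀ → Fix4 (M j) v w (dia (tauB F) v w) (dia (tauB F) w v) := fun j h1 h0 =>
    M_fix4 h (hl j h1) (hd j h1) (hv j h1 h0) (hwj j h1 h0)
  have h3w : dia (tauB F) ((3 : F) • w) ((3 : F) • w) = 0 := smul_dia hww 3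
  have htv : dia (tauB F) ((3 * c⁻¹) • v) ((3 * c⁻¹) • v) = 0 := smul_dia hv0 _
  obtain ⟨α, hα, hαd⟩ := exists_rtE h3 hG hv0
  obtain ⟨β, hβ, hβd⟩ := exists_rtE h3 hG htv
  obtain ⟨β', hβ', hβ'd⟩ := exists_rtE h3 hG h3w
  set A := up σ α with hA
  set B := up σ β with hB
  have e3w : Γ.1 ((3 * c⁻¹) • v) = (3 : F) • w := by rw [ss_smul hssΓ, hw, smul_smul]
  have hconj : x i₀ * B * (x i₀)⁻¹ = up σ β' := by
    refine eq_of_lf hE hσ (((hM i₀ h01).mul (Lf.tg β)).mul (hM i₀ h01).inv) ?_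
    rw [conj_rt hssΓ hdΓ hβ (β := β') (by rw [e3w]; exact hβ')]
    exact Lf.tg β'
  have cj : ∀ {v' : V8 F} {δ : ↥(E (plusForm 4 F))}, (∀ z, (δ : V8 F ≃ₗ[F] V8 F) z = rtF v' z) →
      (∀ j, j ≠ i₁ → j ≠ i₀ → (M j).1 v' = v') → ∀ j, j ≠ i₁ → j ≠ i₀ → Commute (up σ δ) (x j) := by
    intro v' δ hδ hv' j h1 h0
    refine (comm_of_lf hE hσ (hM j h1) (Lf.tg δ) ?_).symm
    rw [← mul_inv_eq_iff_eq_mul]
    exact conj_rt (hss j h1) (hd j h1) hδ (by rw [hv' j h1 h0]; exact hδ)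
  have hAj : ∀ j, j ≠ i₀ → Commute A (x j) := by
    intro j h0
    by_cases h1 : j = i₁
    · subst h1; exact (comm_x1 hG hE hσ hL hαd).symm
    · exact cj hα hv j h1 h0
  have hBj : ∀ j, j ≠ i₀ → Commute B (x j) := by
    intro j h0
    by_cases h1 : j = i₁
    · subst h1; exact (comm_x1 hG hE hσ hL hβd).symm
    · exact cj hβ (fun j h1 h0 => by rw [ss_smul (hss j h1), hv j h1 h0]) j h1 h0
  set y := A * (x i₀ * B * (x i₀)⁻¹) with hy
  have hyE : y = up σ (α * β') := by rw [hy, hconj, hA, map_mul]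
  have hAB : (A * B) ^ p = 1 := by
    have e : (α * β) ^ p = 1 := by
      apply rt_charP h3 hv0 (t := 1 + 3 * c⁻¹)
      intro z
      have e := rt_add h3 hv0 1 (3 * c⁻¹) z
      rw [one_smul] at e
      rw [mulE, hα, hβ, e]
    rw [hA, hB, ← map_mul, ← map_pow, e, map_one]
  have hy3 : y ^ 3 = 1 := by
    have e : (α * β') ^ 3 = 1 := by
      apply extE
      intro z
      rw [pow_three]
      simp only [mulE]
      rw [hβ', hα, hβ', hα, hβ', hα]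
      refine rt_three h3 hv0 h3w ?_ z
      rw [polar_smul_right, k.vw, smul_eq_mul, mul_one]
    rw [hyE, ← map_pow, e, map_one]
  have hcov' : Cov Ω (Function.update x i₀ y) :=
    mv3 hcov i₀ (fun j hj => hAj j hj) (fun j hj => hBj j hj) (fun j => hc i₀ j)
      ((Nat.coprime_primes (CharP.char_is_prime F p) Nat.prime_three).2 (p_ne_three h3)) hAB hy3
  have hyj : ∀ j, j ≠ i₀ → Commute y (x j) := by
    intro j hj
    have e : Commute (x i₀) (x j) := hc i₀ j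
    exact (hAj j hj).mul_left ((e.mul_left (hBj j hj)).mul_left e.inv_left)
  refine kill_two (x := Function.update x i₀ y) (M := Function.update M i₀ (tg (plusForm 4 F) (α * β'))) (r := r)
    hG hE hσ (p := p) (p_ne_three h3) h01 hr ?_ ?_ hrp ?_ hcov' h ?_ k ?_ ?_ ?_
  · intro j h1 h0; rw [Function.update_of_ne h0]; exact hx j h1 h0
  · intro j h1 h0; rw [Function.update_of_ne h0]; exact hx1 j h1 h0
  · intro i j
    by_cases hi : i = i₀
    · subst hi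
      by_cases hj : j = i
      · subst hj; rfl
      · rw [Function.update_self, Function.update_of_ne hj]; exact hyj j hj
    · by_cases hj : j = i₀
      · subst hj
        rw [Function.update_self, Function.update_of_ne hi]; exact (hyj i hi).symm
      · rw [Function.update_of_ne hi, Function.update_of_ne hj]; exact hc i j
  · rw [Function.update_of_ne h01.symm]; exact hL
  · intro j h1
    by_cases hj : j = i₀
    · subst hj
      rw [Function.update_self, Function.update_self, hyE]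
      exact Lf.tg _
    · rw [Function.update_of_ne hj, Function.update_of_ne hj]; exact hM j h1
  · intro j h1 h0
    rw [Function.update_of_ne h0]; exact hF j h1 h0
  · rw [Function.update_self]
    exact rt_frame k hα hβ'

/-- **kill lemma 4**: two members -/
theorem kill_uni [Finite F] (h3 : (3 : F) ≠ 0) {G Ω : Type*} [Group G] [Finite G] [MulAction G Ω] [Nonempty Ω]
    {N : Subgroup G} {σ : P8 F →* G} (hG : Good (plusForm 4 F)) (hE : Env G Ω N) (hσ : Rp (plusForm 4 F) N σ)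
    {ι : Type*} [Finite ι] {x : ι → G} {i₁ i₀ : ι} (h01 : i₀ ≠ i₁) (hι : ∀ j, j = i₁ ∨ j = i₀)
    (hc : ∀ i j, x i * x j = x j * x i) (hcov : Cov Ω x) (hL : La σ (x i₁) (xt hG (tauB F)))
    {Γ : G8 F} (hM : Lf (up σ) (x i₀) Γ) (hl : Cfsg.Agent.H198.TriDia.IsLin Γ)
    (hd : ∀ u w, Γ.1 (dia (tauB F) u w) = dia (tauB F) (Γ.1 u) (Γ.1 w)) (h1 : Γ ≠ 1) : False := by
  classical
  obtain ⟨p, hp⟩ := CharP.exists F
  have hss := ss_of hl hd
  -- a moved vector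
  obtain ⟨v₁, hv₁, hm⟩ : ∃ v₁ : V8 F, dia (tauB F) v₁ v₁ = 0 ∧ Γ.1 v₁ ≠ v₁ := by
    by_contra hno
    push Not at hno
    apply h1
    apply extG
    intro z
    exact H669.TriBal.eq_of_delta h3 hss.add (ss_smul hss) hno z
  have hw₁ : dia (tauB F) (Γ.1 v₁) (Γ.1 v₁) = 0 := by
    rw [← hd, hv₁]
    have e := ss_smul hss 0 v₁
    rw [zero_smul, zero_smul] at e
    exact e
  obtain ⟨α, hα, hαd⟩ := exists_rtE h3 hG hv₁
  obtain ⟨β, hβ, hβd⟩ := exists_rtE h3 hG hw₁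
  have hαβ : α * β⁻¹ ≠ 1 := by
    intro e
    rw [mul_inv_eq_one] at e
    exact hm (rt_injective h3 hw₁ hv₁ (fun z => by rw [← hα, ← hβ, e]))
  set A := up σ α with hA
  have hconj : x i₀ * A * (x i₀)⁻¹ = up σ β := by
    refine eq_of_lf hE hσ ((hM.mul (Lf.tg α)).mul hM.inv) ?_
    rw [conj_rt hss hd hα hβ]
    exact Lf.tg β
  have hy : A * x i₀ * A⁻¹ * (x i₀)⁻¹ = up σ (α * β⁻¹) := by
    rw [map_mul, map_inv, ← hconj, ← hA]
    group
  have hA1 : Commute A (x i₁) := (comm_x1 hG hE hσ hL hαd).symm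
  have hcov' : Cov Ω (Function.update x i₀ (up σ (α * β⁻¹))) := by
    rw [← hy]
    apply hcov.mv_comm
    intro j hj
    rcases hι j with rfl | rfl
    · exact hA1
    · exact absurd rfl hj
  have hyc : Commute (up σ (α * β⁻¹)) (x i₁) := by
    rw [← hy]
    have e : Commute (x i₀) (x i₁) := hc i₀ i₁
    exact ((hA1.mul_left e).mul_left hA1.inv_left).mul_left e.inv_left
  -- a vector
  obtain ⟨v, hv, hpol⟩ : ∃ v : V8 F, dia (tauB F) v v = 0 ∧
      polar (plusForm 4 F) v (((α * β⁻¹ : ↥(E (plusForm 4 F))) : V8 F ≃ₗ[F] V8 F) v) ≠ 0 := by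
    by_contra hno
    push Not at hno
    apply hαβ
    apply Subtype.ext
    refine H746.BRigid.B_rigid h3 ?_ hno
    exact mul_mem (Subgroup.subset_closure ⟨v₁, hv₁, hα⟩) (inv_mem (Subgroup.subset_closure ⟨_, hw₁, hβ⟩))
  have hd' : ∀ u w, (tg (plusForm 4 F) (α * β⁻¹)).1 (dia (tauB F) u w) =
      dia (tauB F) ((tg (plusForm 4 F) (α * β⁻¹)).1 u) ((tg (plusForm 4 F) (α * β⁻¹)).1 w) := by
    have hb : ∀ u w, ((β⁻¹ : ↥(E (plusForm 4 F))) : V8 F ≃ₗ[F] V8 F) (dia (tauB F) u w) =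
        dia (tauB F) (((β⁻¹ : ↥(E (plusForm 4 F))) : V8 F ≃ₗ[F] V8 F) u)
          (((β⁻¹ : ↥(E (plusForm 4 F))) : V8 F ≃ₗ[F] V8 F) w) := by
      intro u w
      have e : ∀ z, (β : V8 F ≃ₗ[F] V8 F) (((β⁻¹ : ↥(E (plusForm 4 F))) : V8 F ≃ₗ[F] V8 F) z) = z := fun z => by
        rw [← mulE, mul_inv_cancel]; rfl
      apply (β : V8 F ≃ₗ[F] V8 F).injective
      rw [hβd, e, e, e]
    intro u w
    rw [tgE, tgE, tgE, mulE, mulE, mulE, hb, hαd]
  refine kill_three h3 hG hE hσ (p := p) (x := Function.update x i₀ (up σ (α * β⁻¹)))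
    (M := fun _ => tg (plusForm 4 F) (α * β⁻¹)) (r := fun _ => 2) h01 ?_ ?_ ?_ ?_ ?_ hcov' ?_ ?_ ?_ ?_ hv ?_ ?_ hpol
  · intro j h1 h0; exact absurd ((hι j).resolve_left h1) h0
  · intro j h1 h0; exact absurd ((hι j).resolve_left h1) h0
  · intro j h1 h0; exact absurd ((hι j).resolve_left h1) h0
  · intro j h1 h0; exact absurd ((hι j).resolve_left h1) h0
  · intro i j
    rcases hι i with rfl | rfl
    · rcases hι j with rfl | rfl
      · rfl
      · rw [Function.update_of_ne h01.symm, Function.update_self]; exact hyc.symm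
    · rcases hι j with rfl | rfl
      · rw [Function.update_of_ne h01.symm, Function.update_self]; exact hyc
      · rfl
  · rw [Function.update_of_ne h01.symm]; exact hL
  · intro j h1
    obtain rfl := (hι j).resolve_left h1
    rw [Function.update_self]
    exact Lf.tg _
  · intro j h1
    exact ⟨1, one_ne_zero, fun x y => map_add ((α * β⁻¹ : ↥(E (plusForm 4 F))) : V8 F ≃ₗ[F] V8 F) x y,
      fun a x => map_smul ((α * β⁻¹ : ↥(E (plusForm 4 F))) : V8 F ≃ₗ[F] V8 F) a x,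
      fun x => by rw [one_mul]; exact E_le_O (α * β⁻¹).2 x⟩
  · intro j h1; exact hd'
  · intro j h1 h0; exact absurd ((hι j).resolve_left h1) h0
  · intro j h1 h0; exact absurd ((hι j).resolve_left h1) h0

end Cfsg.Agent.H442.RC.TriB
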