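import Cfsg.Agent.H442.RC.SC

/-!
# S3510, triality: the images of Siegel elements under `xt hG τ`
-/

set_option autoImplicit false
set_option linter.unusedSectionVars false

namespace Cfsg.Agent.H442.RC.TriB

open Module QuadraticMap Cfsg.Agent.LieClassical.OrthCore Cfsg.Agent.LieClassical.OrthTrans
  Cfsg.Agent.LieClassical.OrthSimple Cfsg.Agent.ClassicalGeometry.OrthAut1
  Cfsg.Agent.ClassicalGeometry.OrthSemi Cfsg.Agent.H198.Classes
  Cfsg.Agent.LieClassical.QuadForms Cfsg.Agent.H198.ClassesPlus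
  Cfsg.Agent.ClassicalGeometry.TrialityOct Cfsg.Agent.ClassicalGeometry.Triality
  Cfsg.Agent.ClassicalGeometry.TrialitySpaces Cfsg.Agent.H198.TriBase Cfsg.Agent.H198.TriAut
  Cfsg.Agent.H198.TriDia Cfsg.Agent.H566.RC Cfsg.Agent.AutOrth.SemiSim

universe u

variable {F : Type u} [Field F] {τ : G8 F}

theorem appG (M N : G8 F) (x : V8 F) : (M * N).1 x = M.1 (N.1 x) := rfl

theorem inv_appG (M : G8 F) (x : V8 F) : M⁻¹.1 (M.1 x) = x := M.1.symm_apply_apply x

theorem app_invG (M : G8 F) (x : V8 F) : M.1 (M⁻¹.1 x) = x := M.1.apply_symm_apply x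

/-- **the images under the triality automorphism** -/
theorem xt_psi (hG : Good (plusForm 4 F)) (h : Au τ) {M M₁ M₂ : G8 F}
    (hM : ∀ x y, M.1 (dia τ x y) = dia τ (M₁.1 x) (M₂.1 y)) :
    xt hG τ * Psi (plusForm 4 F) M * (xt hG τ)⁻¹ = Psi (plusForm 4 F) M₁ := by
  have hkk : ∀ x : V8 F, (kapG F).1 x = oconj x := kapG_apply
  have hT : TriS M (τ⁻¹ * (kapG F * M₁ * kapG F) * τ) (τ * (kapG F * M₂ * kapG F) * τ⁻¹) := by
    intro x y
    have e1 : omul x y = dia τ (oconj (τ.1 x)) (oconj (τ⁻¹.1 y)) := by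
      rw [dia, oconj_oconj, oconj_oconj, inv_appG, app_invG]
    rw [e1, hM, dia]
    simp only [appG, hkk]
  have h1 := rho_conj hG hT
  have e2 : kapG F * (τ⁻¹ * (kapG F * M₁ * kapG F) * τ) * kapG F = τ⁻¹ * M₁ * τ := by
    have hk := aut_kap h.tri
    have hk2 : kapG F * τ⁻¹ * kapG F = τ⁻¹ := aut_kap h.tri.inv
    calc kapG F * (τ⁻¹ * (kapG F * M₁ * kapG F) * τ) * kapG F
        = (kapG F * τ⁻¹ * kapG F) * M₁ * (kapG F * τ * kapG F) := by group
      _ = _ := by rw [hk, hk2]
  rw [e2] at h1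
  rw [xt]
  have e3 : Psi (plusForm 4 F) τ * rho hG * Psi (plusForm 4 F) M * (Psi (plusForm 4 F) τ * rho hG)⁻¹ =
      Psi (plusForm 4 F) τ * (rho hG * Psi (plusForm 4 F) M * (rho hG)⁻¹) * (Psi (plusForm 4 F) τ)⁻¹ := by group
  rw [e3, h1, ← map_inv (Psi (plusForm 4 F)), ← map_mul (Psi (plusForm 4 F)), ← map_mul (Psi (plusForm 4 F))]
  congr 1
  group

section sieg

variable (h : Au τ) {a b : V8 F} (ha : plusForm 4 F a = 0) (hb : plusForm 4 F b = 0)
  (hab : polar (plusForm 4 F) a b = 0)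

theorem S1_aux (h : Au τ) (hb : plusForm 4 F b = 0) (hab : polar (plusForm 4 F) a b = 0) (x : V8 F) :
    dia τ b (dia τ (dia τ b x) a) = 0 := by
  have h1 := h.lin2 b (dia τ b x) a
  rw [h.dia_dia, hb, zero_smul, dia_zero_right h, add_zero, polar_comm, hab, zero_smul] at h1
  exact h1

theorem S2_aux (h : Au τ) (hb : plusForm 4 F b = 0) (hab : polar (plusForm 4 F) a b = 0) (x : V8 F) :
    dia τ (dia τ a (dia τ x b)) b = 0 := by
  have h1 := h.lin1 a (dia τ x b) b
  rw [h.dia_dia', hb, zero_smul, dia_zero_left h, add_zero, hab, zero_smul] at h1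
  exact h1

/-- `x ↦ x - (b ⋄ x) ⋄ a` -/
def S1 (h : Au τ) (ha : plusForm 4 F a = 0) (hb : plusForm 4 F b = 0) (hab : polar (plusForm 4 F) a b = 0) : G8 F :=
  ⟨{ toFun := fun x => x - dia τ (dia τ b x) a
     invFun := fun x => x + dia τ (dia τ b x) a
     left_inv := fun x => by
       change (x - dia τ (dia τ b x) a) + dia τ (dia τ b (x - dia τ (dia τ b x) a)) a = x
       rw [sub_right h, sub_left h, S1_aux h hb hab, dia_zero_left h, sub_zero, sub_add_cancel]
     right_inv := fun x => by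
       change (x + dia τ (dia τ b x) a) - dia τ (dia τ b (x + dia τ (dia τ b x) a)) a = x
       rw [h.dia_add_right, h.dia_add_left, S1_aux h hb hab, dia_zero_left h, add_zero, add_sub_cancel_right] },
   RingEquiv.refl F, 1, one_ne_zero, fun x y => by
     change (x + y) - dia τ (dia τ b (x + y)) a = (x - dia τ (dia τ b x) a) + (y - dia τ (dia τ b y) a)
     rw [h.dia_add_right, h.dia_add_left]; abel,
   fun c x => by
     change (c • x) - dia τ (dia τ b (c • x)) a = c • (x - dia τ (dia τ b x) a)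
     rw [h.dia_smul_right, h.dia_smul_left, smul_sub],
   fun x => by
     change plusForm 4 F (x - dia τ (dia τ b x) a) = 1 * plusForm 4 F x
     have h1 : polar (plusForm 4 F) x (dia τ (dia τ b x) a) = 0 := by
       rw [polar_comm, h.assoc, polar_right h, polar_comm _ b, hab, mul_zero]
     rw [sub_eq_add_neg, QuadraticMap.map_add (plusForm 4 F), QuadraticMap.map_neg, h.dia_norm, ha, mul_zero,
       polar_neg_right, h1]
     ring⟩

theorem S1_apply (x : V8 F) : (S1 h ha hb hab).1 x = x - dia τ (dia τ b x) a := rfl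

/-- `x ↦ x - a ⋄ (x ⋄ b)` -/
def S2 (h : Au τ) (ha : plusForm 4 F a = 0) (hb : plusForm 4 F b = 0) (hab : polar (plusForm 4 F) a b = 0) : G8 F :=
  ⟨{ toFun := fun x => x - dia τ a (dia τ x b)
     invFun := fun x => x + dia τ a (dia τ x b)
     left_inv := fun x => by
       change (x - dia τ a (dia τ x b)) + dia τ a (dia τ (x - dia τ a (dia τ x b)) b) = x
       rw [sub_left h, sub_right h, S2_aux h hb hab, dia_zero_right h, sub_zero, sub_add_cancel]
     right_inv := fun x => by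
       change (x + dia τ a (dia τ x b)) - dia τ a (dia τ (x + dia τ a (dia τ x b)) b) = x
       rw [h.dia_add_left, h.dia_add_right, S2_aux h hb hab, dia_zero_right h, add_zero, add_sub_cancel_right] },
   RingEquiv.refl F, 1, one_ne_zero, fun x y => by
     change (x + y) - dia τ a (dia τ (x + y) b) = (x - dia τ a (dia τ x b)) + (y - dia τ a (dia τ y b))
     rw [h.dia_add_left, h.dia_add_right]; abel,
   fun c x => by
     change (c • x) - dia τ a (dia τ (c • x) b) = c • (x - dia τ a (dia τ x b))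
     rw [h.dia_smul_left, h.dia_smul_right, smul_sub],
   fun x => by
     change plusForm 4 F (x - dia τ a (dia τ x b)) = 1 * plusForm 4 F x
     have h1 : polar (plusForm 4 F) x (dia τ a (dia τ x b)) = 0 := by
       rw [← h.assoc, polar_left h, hab, mul_zero]
     rw [sub_eq_add_neg, QuadraticMap.map_add (plusForm 4 F), QuadraticMap.map_neg, h.dia_norm, ha, zero_mul,
       polar_neg_right, h1]
     ring⟩

theorem S2_apply (x : V8 F) : (S2 h ha hb hab).1 x = x - dia τ a (dia τ x b) := rfl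

/-- **image of a Siegel element** -/
theorem xt_sg (hG : Good (plusForm 4 F)) :
    xt hG τ * Psi (plusForm 4 F) (Cfsg.Agent.H93.RC.tg (plusForm 4 F) (sg (plusForm 4 F) a b ha hab)) * (xt hG τ)⁻¹ =
      Psi (plusForm 4 F) (S1 h ha hb hab) := by
  apply xt_psi hG h (M₂ := S2 h ha hb hab)
  intro x y
  rw [S1_apply, S2_apply, ← tri_sieg h ha hb hab, Cfsg.Agent.H93.RC.tg_apply, sg_apply, hb]
  simp

end sieg

/-- exact automorphisms are isometries -/
theorem isom_of_dia (h : Au τ) {M : G8 F} (hl : Cfsg.Agent.H198.TriDia.IsLin M)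
    (hd : ∀ x y, M.1 (dia τ x y) = dia τ (M.1 x) (M.1 y)) (x : V8 F) :
    plusForm 4 F (M.1 x) = plusForm 4 F x := by
  obtain ⟨c, hc⟩ := hl
  have h1 : ∀ y : V8 F, (plusForm 4 F (M.1 x) - plusForm 4 F x) • M.1 y = 0 := by
    intro y
    rw [sub_smul, ← h.dia_dia, ← hd, ← hd, h.dia_dia, hc.smul]
    simp
  obtain ⟨y, hy⟩ := M.1.surjective (one8 F)
  have h2 := h1 y
  rw [hy] at h2
  rcases smul_eq_zero.1 h2 with h4 | h4
  · exact sub_eq_zero.1 h4
  · exfalso
    have h5 := norm_one8 (F := F)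
    rw [h4, QuadraticMap.map_zero] at h5
    exact zero_ne_one h5

end Cfsg.Agent.H442.RC.TriB
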